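import Cfsg.Agent.Ptn.NormComp
import Cfsg.Agent.H4.BaerSuzuki
import Cfsg.Agent.RankThree.Closed

set_option autoImplicit false

namespace Cfsg.Agent.Ptn

variable {G : Type*} [Group G]

theorem orderOf_dvd_primepow {p : ℕ} (hp : p.Prime) {x : G} (h : ∃ j, x ^ p ^ j = 1) (hx : x ≠ 1) :
    ∃ m, 0 < m ∧ orderOf x = p ^ m := by
  obtain ⟨j, hj⟩ := h
  obtain ⟨m, -, hm⟩ := (Nat.dvd_prime_pow hp).1 (orderOf_dvd_of_pow_eq_one hj)
  refine ⟨m, Nat.pos_of_ne_zero ?_, hm⟩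
  rintro rfl
  rw [pow_zero, orderOf_eq_one_iff] at hm
  exact hx hm

theorem ppow_ne {p r : ℕ} (hp : p.Prime) (hr : r.Prime) (hne : r ≠ p) {a b : ℕ} (ha : 0 < a) : p ^ a ≠ r ^ b := by
  intro e
  have h1 : p ∣ r ^ b := by rw [← e]; exact dvd_pow_self p ha.ne'
  exact prime_not_dvd_pow hp hr hne h1

namespace NP

variable {X : G → Subgroup G} (h : NP X)

/-- data: an abelian normal `p`-subgroup of exponent `p` in no component -/
structure AM (X : G → Subgroup G) (M : Subgroup G) (p : ℕ) : Prop where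
  np : NP X
  prime : p.Prime
  normal : M.Normal
  ne_bot : M ≠ ⊥
  pow : ∀ m ∈ M, m ^ p = 1
  comm : ∀ a ∈ M, ∀ b ∈ M, a * b = b * a
  nle : ∀ m ∈ M, m ≠ 1 → ¬ M ≤ X m

namespace AM

variable {M : Subgroup G} {p : ℕ} (A : AM X M p)
include A

theorem ordM {m : G} (hm : m ∈ M) (hm1 : m ≠ 1) : orderOf m = p := by
  haveI := Fact.mk A.prime
  exact orderOf_eq_prime (A.pow m hm) hm1

theorem mem_of_comm' [Finite G] {r : ℕ} (hr : r.Prime) (hrp : r ≠ p) {y m : G} (hy : ∃ j, y ^ r ^ j = 1) (hy1 : y ≠ 1)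
    (hm : m ∈ M) (hmy : m * y = y * m) : m ∈ X y := by
  by_cases hm1 : m = 1
  · rw [hm1]; exact one_mem _
  refine A.np.mem_of_comm hy1 hm1 hmy.symm ?_
  rw [A.ordM hm hm1]
  obtain ⟨a, ha, hb⟩ := orderOf_dvd_primepow hr hy hy1
  rw [hb]
  intro e
  exact ppow_ne A.prime hr hrp (a := 1) (b := a) one_pos (by rw [pow_one]; exact e)

theorem PPpow [Finite G] {y m : G} {Y : Subgroup G} (hy : y ∈ Y) (hY : ∀ z ∈ Y, m * z * m⁻¹ ∈ Y) (n : ℕ) (hm : m ∈ M) :
    (m ^ n)⁻¹ * PP y m n ∈ Y := by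
  have h1 : ∀ k : ℕ, y ^ k * m * (y ^ k)⁻¹ * m⁻¹ ∈ Y := by
    intro k
    have e : y ^ k * m * (y ^ k)⁻¹ * m⁻¹ = y ^ k * (m * (y ^ k)⁻¹ * m⁻¹) := by group
    rw [e]; exact mul_mem (pow_mem hy k) (hY _ (inv_mem (pow_mem hy k)))
  have hMm : ∀ k : ℕ, PP y m k ∈ M := fun k => PP_mem (fun z hz => A.normal.conj_mem z hz y) hm k
  induction n with
  | zero => simp [PP, one_mem]
  | succ n ih =>
    rw [PP]
    have hc : y ^ n * m * (y ^ n)⁻¹ ∈ M := A.normal.conj_mem m hm _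
    have hcm := A.comm _ hc m⁻¹ (inv_mem hm)
    have hcn := A.comm _ (hMm n) m⁻¹ (inv_mem hm)
    have e : (m ^ (n + 1))⁻¹ * (PP y m n * (y ^ n * m * (y ^ n)⁻¹)) =
        ((m ^ n)⁻¹ * PP y m n) * (y ^ n * m * (y ^ n)⁻¹ * m⁻¹) := by
      rw [pow_succ, mul_inv_rev]
      generalize hP : PP y m n = P at *
      generalize hQ : y ^ n * m * (y ^ n)⁻¹ = Q at *
      have hc2 : m⁻¹ * (m ^ n)⁻¹ = (m ^ n)⁻¹ * m⁻¹ := by
        rw [← mul_inv_rev, ← mul_inv_rev, ← pow_succ, ← pow_succ']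
      calc m⁻¹ * (m ^ n)⁻¹ * (P * Q) = (m⁻¹ * (m ^ n)⁻¹) * P * Q := by group
        _ = (m ^ n)⁻¹ * m⁻¹ * P * Q := by rw [hc2]
        _ = (m ^ n)⁻¹ * (m⁻¹ * P) * Q := by group
        _ = (m ^ n)⁻¹ * (P * m⁻¹) * Q := by rw [hcn]
        _ = (m ^ n)⁻¹ * P * (m⁻¹ * Q) := by group
        _ = (m ^ n)⁻¹ * P * (Q * m⁻¹) := by rw [hcm]
    rw [e]; exact mul_mem ih (h1 n)

theorem inf_eq_bot [Finite G] {r : ℕ} (hr : r.Prime) (hrp : r ≠ p) {y : G} (hy : ∃ j, y ^ r ^ j = 1) (hy1 : y ≠ 1)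
    {m : G} (hm : m ∈ M) (hmY : m ∈ X y) : m = 1 := by
  by_contra hm1
  apply A.nle m hm hm1
  rw [A.np.eq hy1 hmY hm1]
  intro x hx
  have hnx : ∀ z ∈ X y, x * z * x⁻¹ ∈ X y := fun z hz =>
    A.np.norm_of_comm hy1 hmY hm1 (A.comm x hx m hm) hz
  obtain ⟨a, ha, hord⟩ := orderOf_dvd_primepow hr hy hy1
  have h1 := A.PPpow (A.np.mem y) hnx (orderOf y) hx
  -- the norm commutes with y
  have hPM : PP y x (orderOf y) ∈ M := PP_mem (fun z hz => A.normal.conj_mem z hz y) hx _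
  have h2 : PP y x (orderOf y) * y = y * PP y x (orderOf y) := by
    have e1 : PP y x (orderOf y) = (x * y) ^ orderOf y := by
      rw [← PP_pow, pow_orderOf_eq_one, mul_one]
    have e2 : (x * y) * PP y x (orderOf y) = PP y x (orderOf y) * (x * y) := by
      rw [e1]; exact ((Commute.refl (x * y)).pow_right _)
    have e3 := A.comm x hx _ hPM
    have : x * (y * PP y x (orderOf y)) = x * (PP y x (orderOf y) * y) := by
      calc x * (y * PP y x (orderOf y)) = (x * y) * PP y x (orderOf y) := by group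
        _ = PP y x (orderOf y) * (x * y) := e2
        _ = (PP y x (orderOf y) * x) * y := by group
        _ = (x * PP y x (orderOf y)) * y := by rw [e3]
        _ = x * (PP y x (orderOf y) * y) := by group
    exact (mul_left_cancel this).symm
  have h3 : PP y x (orderOf y) ∈ X y := A.mem_of_comm' hr hrp hy hy1 hPM h2
  have h4 : x ^ orderOf y ∈ X y := by
    have e : x ^ orderOf y = PP y x (orderOf y) * ((x ^ orderOf y)⁻¹ * PP y x (orderOf y))⁻¹ := by group
    rw [e]; exact mul_mem h3 (inv_mem h1)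
  have hcop : Nat.Coprime (orderOf y) p := by
    rw [hord]; exact ((Nat.coprime_primes hr A.prime).2 hrp).pow_left a
  -- x is a power of x ^ orderOf y
  by_cases hx1 : x = 1
  · rw [hx1]; exact one_mem _
  have h5 : Nat.Coprime (orderOf y) (orderOf x) := by rw [A.ordM hx hx1]; exact hcop
  have h6 : Subgroup.zpowers (x ^ orderOf y) = Subgroup.zpowers x := by
    apply Subgroup.eq_of_le_of_card_ge
    · rw [Subgroup.zpowers_le]; exact pow_mem (Subgroup.mem_zpowers x) _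
    · rw [Nat.card_zpowers, Nat.card_zpowers, h5.symm.orderOf_pow]
  exact (Subgroup.zpowers_le.2 h4) (h6 ▸ Subgroup.mem_zpowers x)

theorem cent_bot [Finite G] {r : ℕ} (hr : r.Prime) (hrp : r ≠ p) {y : G} (hy : ∃ j, y ^ r ^ j = 1) (hy1 : y ≠ 1)
    {m : G} (hm : m ∈ M) (hmy : m * y = y * m) : m = 1 :=
  A.inf_eq_bot hr hrp hy hy1 hm (A.mem_of_comm' hr hrp hy hy1 hm hmy)

theorem exists_notin {c : G} (hc1 : c ≠ 1) : ∃ m ∈ M, m ≠ 1 ∧ m ∉ X c := by
  by_contra hcon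
  push Not at hcon
  obtain ⟨m, hm, hm1⟩ := (Subgroup.bot_or_exists_ne_one M).resolve_left A.ne_bot
  apply A.nle m hm hm1
  intro x hx
  by_cases hx1 : x = 1
  · rw [hx1]; exact one_mem _
  · rw [A.np.eq hc1 (hcon m hm hm1) hm1]
    exact hcon x hx hx1

theorem powC [Finite G] {c : G} (hc : c ∈ Subgroup.centralizer (M : Set G)) : c ^ p = 1 := by
  by_cases hc1 : c = 1
  · rw [hc1, one_pow]
  obtain ⟨m, hm, hm1, hmX⟩ := A.exists_notin hc1
  have := (A.np.comm hc1 hm1 ((Subgroup.mem_centralizer_iff.1 hc) m hm).symm hmX).2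
  rw [A.ordM hm hm1] at this
  rw [this, pow_orderOf_eq_one]

theorem ordC [Finite G] {c : G} (hc : c ∈ Subgroup.centralizer (M : Set G)) (hc1 : c ≠ 1) : orderOf c = p := by
  haveI := Fact.mk A.prime
  exact orderOf_eq_prime (A.powC hc) hc1

/-- `p'`-elements act fixed point freely on `C(M)` -/
theorem fpfC [Finite G] {r : ℕ} (hr : r.Prime) (hrp : r ≠ p) {k : G} (hk : ∃ j, k ^ r ^ j = 1) (hk1 : k ≠ 1)
    {c : G} (hc : c ∈ Subgroup.centralizer (M : Set G)) (hck : c * k = k * c) : c = 1 := by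
  by_contra hc1
  have h1 : k ∈ X c := by
    refine A.np.mem_of_comm hc1 hk1 hck ?_
    rw [A.ordC hc hc1]
    obtain ⟨a, ha, hb⟩ := orderOf_dvd_primepow hr hk hk1
    rw [hb]
    intro e
    exact ppow_ne A.prime hr hrp (a := 1) (b := a) one_pos (by rw [pow_one]; exact e.symm)
  obtain ⟨m, hm, hm1⟩ := (Subgroup.bot_or_exists_ne_one M).resolve_left A.ne_bot
  have hmc := (Subgroup.mem_centralizer_iff.1 hc) m hm
  have h2 : m * k * m⁻¹ ∈ X c := A.np.norm_of_comm hc1 (A.np.mem c) hc1 hmc h1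
  have h3 : m * k * m⁻¹ * k⁻¹ ∈ X k := by
    rw [A.np.eq hc1 h1 hk1]; exact mul_mem h2 (inv_mem h1)
  have h4 : m * k * m⁻¹ * k⁻¹ ∈ M := by
    have e : m * k * m⁻¹ * k⁻¹ = m * (k * m⁻¹ * k⁻¹) := by group
    rw [e]; exact mul_mem hm (A.normal.conj_mem _ (inv_mem hm) k)
  have h5 := A.inf_eq_bot hr hrp hk hk1 h4 h3
  apply hm1
  apply A.cent_bot hr hrp hk hk1 hm
  calc m * k = m * k * m⁻¹ * k⁻¹ * (k * m) := by group
    _ = k * m := by rw [h5, one_mul]

theorem exists_fixM [Finite G] {y : G} (hy : ∃ j, y ^ p ^ j = 1) : ∃ m ∈ M, m ≠ 1 ∧ y * m = m * y := by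
  haveI := Fact.mk A.prime
  have hT : IsPGroup p (Subgroup.zpowers y) := by
    obtain ⟨j, hj⟩ := hy
    obtain ⟨m, -, hm⟩ := (Nat.dvd_prime_pow A.prime).1 (orderOf_dvd_of_pow_eq_one hj)
    rw [IsPGroup.iff_card]
    exact ⟨m, by rw [Nat.card_zpowers, hm]⟩
  have hV : IsPGroup p M := fun x => ⟨1, by rw [pow_one]; exact Subtype.ext (A.pow x x.2)⟩
  haveI := A.normal
  obtain ⟨v, hv, hv1, hvk⟩ := Cfsg.Agent.H67.exists_fixed_of_pgroup (p := p) (Subgroup.zpowers y) M hT hV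
    A.ne_bot (by rw [Subgroup.normalizer_eq_top]; exact le_top)
  refine ⟨v, hv, hv1, ?_⟩
  have := hvk y (Subgroup.mem_zpowers y)
  calc y * v = y * v * y⁻¹ * y := by group
    _ = v * y := by rw [this]

/-- no commuting `p`- and `r`-elements -/
theorem no_pr [Finite G] {r : ℕ} (hr : r.Prime) (hrp : r ≠ p) {a b : G} (ha : ∃ j, a ^ p ^ j = 1) (ha1 : a ≠ 1)
    (hb : ∃ j, b ^ r ^ j = 1) (hb1 : b ≠ 1) (hab : a * b = b * a) : False := by
  obtain ⟨m, hm, hm1, hma⟩ := A.exists_fixM ha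
  have h1 : a ∈ X b := by
    refine A.np.mem_of_comm hb1 ha1 hab.symm ?_
    obtain ⟨i, hi, hi'⟩ := orderOf_dvd_primepow A.prime ha ha1
    obtain ⟨j, hj, hj'⟩ := orderOf_dvd_primepow hr hb hb1
    rw [hi', hj']
    exact ppow_ne A.prime hr hrp hi
  have h2 : m * b * m⁻¹ ∈ X b := A.np.norm_of_comm hb1 h1 ha1 hma.symm (A.np.mem b)
  have h3 : m * b * m⁻¹ * b⁻¹ ∈ X b := mul_mem h2 (inv_mem (A.np.mem b))
  have h4 : m * b * m⁻¹ * b⁻¹ ∈ M := by
    have e : m * b * m⁻¹ * b⁻¹ = m * (b * m⁻¹ * b⁻¹) := by group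
    rw [e]; exact mul_mem hm (A.normal.conj_mem _ (inv_mem hm) b)
  have h5 := A.inf_eq_bot hr hrp hb hb1 h4 h3
  apply hm1
  apply A.cent_bot hr hrp hb hb1 hm
  calc m * b = m * b * m⁻¹ * b⁻¹ * (b * m) := by group
    _ = b * m := by rw [h5, one_mul]

/-- the case in which all `p`-elements have order `p` -/
theorem case_E [Finite G] (hmin : ∀ N : Subgroup G, N.Normal → N ≤ M → N ≠ ⊥ → N = M)
    (hE : ∀ y : G, (∃ j, y ^ p ^ j = 1) → y ^ p = 1) :
    (∃ p : ℕ, p.Prime ∧ Subgroup.closure {g : G | g ^ p ≠ 1} ≠ ⊤) ∨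
      ∃ H : Subgroup G, Cfsg.IsFrobeniusComplement H := by
  classical
  have hp := A.prime
  haveI := Fact.mk hp
  haveI := A.normal
  haveI hCn : (Subgroup.centralizer (M : Set G)).Normal := inferInstance
  have hMpg : IsPGroup p M := fun x => ⟨1, by rw [pow_one]; exact Subtype.ext (A.pow x x.2)⟩
  have hndvd := lemK A.normal A.ne_bot hmin hp A.pow A.comm
    (fun y hy hyC w hw => by
      have hyp := hE y hy
      have h1 : (w * y) ^ p = 1 := by
        apply hE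
        -- w * y is a p-element
        have hZ : IsPGroup p (Subgroup.zpowers y) := by
          obtain ⟨j, hj⟩ := hy
          obtain ⟨m, -, hm⟩ := (Nat.dvd_prime_pow hp).1 (orderOf_dvd_of_pow_eq_one hj)
          rw [IsPGroup.iff_card]
          exact ⟨m, by rw [Nat.card_zpowers, hm]⟩
        have h2 : IsPGroup p (M ⊔ Subgroup.zpowers y : Subgroup G) := hMpg.to_sup_of_normal_left hZ
        obtain ⟨j, hj⟩ := h2 ⟨w * y, mul_mem (Subgroup.mem_sup_left hw) (Subgroup.mem_sup_right (Subgroup.mem_zpowers y))⟩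
        exact ⟨j, by have := congrArg Subtype.val hj; simpa using this⟩
      rw [← PP_pow, hyp, mul_one] at h1
      exact h1)
    (fun s hs hsp e he heC w hw hew => by
      have he1 : e ≠ 1 := by rintro rfl; exact heC (one_mem _)
      exact A.cent_bot hs hsp he he1 hw hew.symm)
    (fun x s hs hsp h1 h2 => by
      have h3 := A.np.orderOf_pow_div hp (h1.trans (orderOf_map_dvd _ x))
      have h4 := A.np.orderOf_pow_div hs (h2.trans (orderOf_map_dvd _ x))
      refine A.no_pr hs hsp (a := x ^ (orderOf x / p)) (b := x ^ (orderOf x / s)) ⟨1, ?_⟩ ?_ ⟨1, ?_⟩ ?_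
        (Commute.pow_pow_self x _ _)
      · have := pow_orderOf_eq_one (x ^ (orderOf x / p))
        rw [h3] at this; rw [pow_one]; exact this
      · intro e; rw [e, orderOf_one] at h3; exact hp.ne_one h3.symm
      · have := pow_orderOf_eq_one (x ^ (orderOf x / s))
        rw [h4] at this; rw [pow_one]; exact this
      · intro e; rw [e, orderOf_one] at h4; exact hs.ne_one h4.symm)
  set C := Subgroup.centralizer (M : Set G) with hC
  have hMC : M ≤ C := by
    intro w hw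
    rw [hC, Subgroup.mem_centralizer_iff]
    intro v hv; exact A.comm v hv w hw
  by_cases hCt : C = ⊤
  · left
    refine ⟨p, hp, ?_⟩
    intro htop
    apply A.ne_bot
    have h1 : Subgroup.closure {g : G | g ^ p ≠ 1} = ⊥ := by
      rw [Subgroup.closure_eq_bot_iff]
      intro g hg
      exact absurd (A.powC (c := g) (by rw [← hC, hCt]; trivial)) hg
    rw [eq_bot_iff]
    intro m _
    have : m ∈ (⊤ : Subgroup G) := trivial
    rwa [← htop, h1] at this
  right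
  refine frobK hCn ?_ hCt ?_
  · intro hb
    apply A.ne_bot
    rw [eq_bot_iff, ← hb]; exact hMC
  · intro c hc hc1 g hgc
    by_contra hgC
    have hn1 : orderOf (QuotientGroup.mk' C g) ≠ 1 := by
      rw [Ne, orderOf_eq_one_iff]
      intro hc; exact hgC ((QuotientGroup.eq_one_iff g).1 hc)
    obtain ⟨r, hr, hrd⟩ := Nat.exists_prime_and_dvd hn1
    have hrp : r ≠ p := by
      rintro rfl; exact hndvd (hrd.trans (orderOf_dvd_natCard _))
    have hrg : r ∣ orderOf g := hrd.trans (orderOf_map_dvd _ _)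
    have hg'o := A.np.orderOf_pow_div hr hrg
    apply hc1
    apply A.fpfC hr hrp (k := g ^ (orderOf g / r)) ⟨1, ?_⟩ ?_ hc ((show Commute c g from hgc.symm).pow_right _)
    · have := pow_orderOf_eq_one (g ^ (orderOf g / r))
      rw [hg'o] at this; rw [pow_one]; exact this
    · intro e; rw [e, orderOf_one] at hg'o; exact hr.ne_one hg'o.symm

theorem PP_mul {C : Subgroup G} (hCn : C.Normal) (hCc : ∀ a ∈ C, ∀ b ∈ C, a * b = b * a) {y a b : G} (ha : a ∈ C)
    (hb : b ∈ C) (n : ℕ) : PP y (a * b) n = PP y a n * PP y b n := by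
  induction n with
  | zero => simp [PP]
  | succ n ih =>
    rw [PP, PP, PP, ih]
    have h1 : PP y b n ∈ C := PP_mem (fun z hz => hCn.conj_mem z hz y) hb n
    have h2 : y ^ n * a * (y ^ n)⁻¹ ∈ C := hCn.conj_mem a ha _
    have h3 := hCc _ h1 _ h2
    calc PP y a n * PP y b n * (y ^ n * (a * b) * (y ^ n)⁻¹)
        = PP y a n * (PP y b n * (y ^ n * a * (y ^ n)⁻¹)) * (y ^ n * b * (y ^ n)⁻¹) := by group
      _ = PP y a n * ((y ^ n * a * (y ^ n)⁻¹) * PP y b n) * (y ^ n * b * (y ^ n)⁻¹) := by rw [h3]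
      _ = _ := by group

/-- `p`-elements of order greater than `p` -/
theorem normpow [Finite G] {y m0 : G} (hyp : y ^ p ≠ 1) (hm0 : m0 ∈ M) (hm01 : m0 ≠ 1) (hym : y * m0 = m0 * y) :
    y ∈ X m0 ∧ ∀ c ∈ Subgroup.centralizer (M : Set G), c ∉ X m0 → PP y c p = (y ^ p)⁻¹ := by
  have hy : y ∈ X m0 := A.np.mem_of_comm_pow A.prime (A.pow m0 hm0) hm01 hyp hym.symm
  refine ⟨hy, ?_⟩
  intro c hc hcX
  have h1 : c * y ∉ X m0 := by
    intro hh
    apply hcX
    have := mul_mem hh (inv_mem hy)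
    simpa using this
  have hcm := (Subgroup.mem_centralizer_iff.1 hc) m0 hm0
  have h2 : m0 * (c * y) = c * y * m0 := by
    calc m0 * (c * y) = m0 * c * y := by group
      _ = c * (m0 * y) := by rw [hcm, mul_assoc]
      _ = c * y * m0 := by rw [← hym, mul_assoc]
  have h3 : c * y ≠ 1 := by intro e; rw [e] at h1; exact h1 (one_mem _)
  have h4 := (A.np.comm hm01 h3 h2 h1).2
  rw [A.ordM hm0 hm01] at h4
  have h5 : (c * y) ^ p = 1 := by rw [← h4, pow_orderOf_eq_one]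
  rw [← PP_pow] at h5
  exact eq_inv_of_mul_eq_one_left h5

theorem odd_E [Finite G] (hp2 : p ≠ 2) (y : G) (hy : ∃ j, y ^ p ^ j = 1) : y ^ p = 1 := by
  by_contra hyp
  obtain ⟨m0, hm0, hm01, hym⟩ := A.exists_fixM hy
  obtain ⟨hyX, hN⟩ := A.normpow hyp hm0 hm01 hym
  have hMC : ∀ w ∈ M, w ∈ Subgroup.centralizer (M : Set G) := by
    intro w hw
    rw [Subgroup.mem_centralizer_iff]
    intro v hv; exact A.comm v hv w hw
  obtain ⟨m, hm, hmX⟩ : ∃ m ∈ M, m ∉ X m0 := by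
    by_contra hcon
    push Not at hcon
    exact A.nle m0 hm0 hm01 hcon
  have h2 : m * m ∉ X m0 := by
    intro hc
    apply hmX
    have hodd : Odd p := A.prime.odd_of_ne_two hp2
    obtain ⟨k, hk⟩ := hodd
    have e : m = (m * m) ^ (k + 1) := by
      have : (m * m) ^ (k + 1) = m ^ p * m := by
        rw [← pow_two, ← pow_mul, ← pow_succ, hk]; congr 1
      rw [this, A.pow m hm, one_mul]
    rw [e]; exact pow_mem hc _
  have h3 := hN m (hMC m hm) hmX
  have h4 := hN (m * m) (hMC _ (mul_mem hm hm)) h2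
  rw [A.PP_mul A.normal A.comm hm hm, h3] at h4
  apply hyp
  have : (y ^ p)⁻¹ = 1 := by
    have := mul_eq_left.1 h4
    exact this
  exact inv_eq_one.1 this

end AM

end NP

end Cfsg.Agent.Ptn
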