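import Cfsg.Agent.Ptn.Phi
import Cfsg.Agent.Solv.MinNormal

set_option autoImplicit false

namespace Cfsg.Agent.Ptn

variable {G : Type*} [Group G]

/-- central elements of order dividing `q` -/
def Wq (X0 : Subgroup G) (q : ℕ) : Subgroup G where
  carrier := {x | x ∈ X0 ∧ x ^ q = 1 ∧ ∀ z ∈ X0, x * z = z * x}
  one_mem' := ⟨one_mem _, one_pow _, fun z _ => by simp⟩
  mul_mem' := by
    rintro a b ⟨ha, ha2, ha3⟩ ⟨hb, hb2, hb3⟩
    refine ⟨X0.mul_mem ha hb, ?_, ?_⟩
    · rw [(show Commute a b from ha3 b hb).mul_pow, ha2, hb2, one_mul]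
    · intro z hz
      rw [mul_assoc, hb3 z hz, ← mul_assoc, ha3 z hz, mul_assoc]
  inv_mem' := by
    rintro a ⟨ha, ha2, ha3⟩
    refine ⟨X0.inv_mem ha, by rw [inv_pow, ha2, inv_one], ?_⟩
    intro z hz
    have := ha3 z hz
    calc a⁻¹ * z = a⁻¹ * (z * a) * a⁻¹ := by group
      _ = a⁻¹ * (a * z) * a⁻¹ := by rw [this]
      _ = z * a⁻¹ := by group

theorem mem_Wq {X0 : Subgroup G} {q : ℕ} {x : G} :
    x ∈ Wq X0 q ↔ x ∈ X0 ∧ x ^ q = 1 ∧ ∀ z ∈ X0, x * z = z * x := Iff.rfl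

theorem Wq_normal {X0 : Subgroup G} (hX : X0.Normal) (q : ℕ) : (Wq X0 q).Normal := by
  refine ⟨?_⟩
  rintro a ⟨ha, ha2, ha3⟩ g
  refine ⟨hX.conj_mem a ha g, ?_, ?_⟩
  · rw [conj_pow, ha2]; group
  · intro z hz
    have h1 := ha3 (g⁻¹ * z * g) (by have := hX.conj_mem z hz g⁻¹; simpa using this)
    calc g * a * g⁻¹ * z = g * (a * (g⁻¹ * z * g)) * g⁻¹ := by group
      _ = g * ((g⁻¹ * z * g) * a) * g⁻¹ := by rw [h1]
      _ = z * (g * a * g⁻¹) := by group

theorem Wq_ne_bot [Finite G] {X0 : Subgroup G} (hnil : Group.IsNilpotent X0) {q : ℕ} (hq : q.Prime)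
    (hd : q ∣ Nat.card X0) : Wq X0 q ≠ ⊥ := by
  classical
  haveI := Fact.mk hq
  haveI := hnil
  have hP : ∀ P : Sylow q X0, (P : Subgroup X0).Normal := by
    have := (isNilpotent_of_finite_tfae (G := X0)).out 0 3
    exact this.1 hnil q ⟨hq⟩
  obtain ⟨P⟩ : Nonempty (Sylow q X0) := inferInstance
  haveI := hP P
  have hP1 : (P : Subgroup X0) ≠ ⊥ := by
    intro hb
    have h1 : Nat.card P = q ^ (Nat.card X0).factorization q := P.card_eq_multiplicity
    have h2 : Nat.card P = 1 := by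
      have : Nat.card ((P : Subgroup X0)) = 1 := by rw [hb]; exact Subgroup.card_bot
      exact this
    rw [h2] at h1
    have h3 : 0 < (Nat.card X0).factorization q := hq.factorization_pos_of_dvd Nat.card_pos.ne' hd
    have h4 : 1 < q ^ (Nat.card X0).factorization q := Nat.one_lt_pow h3.ne' hq.one_lt
    omega
  have h1 := Cfsg.Agent.Solv.inf_center_ne_bot_of_nilpotent (P : Subgroup X0) hP1
  obtain ⟨x, hx, hx1⟩ := (Subgroup.bot_or_exists_ne_one _).resolve_left h1
  obtain ⟨k, hk⟩ := (IsPGroup.iff_orderOf.1 P.2) ⟨x, hx.1⟩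
  have hk' : orderOf x = q ^ k := by
    rw [← hk]; exact (Subgroup.orderOf_mk x hx.1).symm
  have hk0 : k ≠ 0 := by
    rintro rfl
    rw [pow_zero, orderOf_eq_one_iff] at hk'
    exact hx1 hk'
  intro hb
  have hy : ((x ^ q ^ (k - 1) : X0) : G) ∈ Wq X0 q := by
    refine ⟨Subtype.mem _, ?_, ?_⟩
    · have : (x ^ q ^ (k - 1)) ^ q = 1 := by
        rw [← pow_mul, ← pow_succ, Nat.sub_add_cancel (Nat.pos_of_ne_zero hk0), ← hk', pow_orderOf_eq_one]
      exact_mod_cast congrArg Subtype.val this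
    · intro z hz
      have h2 := Subgroup.mem_center_iff.1 (Subgroup.pow_mem _ hx.2 (q ^ (k - 1))) ⟨z, hz⟩
      exact (congrArg Subtype.val h2).symm
  rw [hb, Subgroup.mem_bot] at hy
  have hy' : x ^ q ^ (k - 1) = 1 := Subtype.ext hy
  have := orderOf_dvd_of_pow_eq_one hy'
  rw [hk', Nat.pow_dvd_pow_iff_le_right hq.one_lt] at this
  omega

theorem prime_not_dvd_pow {p s j : ℕ} (hp : p.Prime) (hs : s.Prime) (hne : s ≠ p) (hd : p ∣ s ^ j) : False := by
  have := hp.dvd_of_dvd_pow hd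
  exact hne ((Nat.prime_dvd_prime_iff_eq hp hs).1 this).symm

namespace NP

variable {X : G → Subgroup G} (h : NP X)
include h

theorem exists_fix [Finite G] {g0 : G} (hX0 : (X g0).Normal) (hnil : Group.IsNilpotent (X g0))
    {q : ℕ} (hq : q.Prime) (hd : q ∣ Nat.card (X g0)) {k : G} (hk : ∃ j, k ^ q ^ j = 1) :
    ∃ b ∈ X g0, b ≠ 1 ∧ b ^ q = 1 ∧ k * b = b * k := by
  haveI := Fact.mk hq
  have hT : IsPGroup q (Subgroup.zpowers k) := by
    obtain ⟨j, hj⟩ := hk
    obtain ⟨m, -, hm⟩ := (Nat.dvd_prime_pow hq).1 (orderOf_dvd_of_pow_eq_one hj)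
    rw [IsPGroup.iff_card]
    exact ⟨m, by rw [Nat.card_zpowers, hm]⟩
  have hV : IsPGroup q (Wq (X g0) q) := fun x => ⟨1, by rw [pow_one]; exact Subtype.ext x.2.2.1⟩
  haveI := Wq_normal hX0 q
  obtain ⟨v, hv, hv1, hvk⟩ := Cfsg.Agent.H67.exists_fixed_of_pgroup (p := q) (Subgroup.zpowers k) (Wq (X g0) q) hT hV
    (Wq_ne_bot hnil hq hd) (by rw [Subgroup.normalizer_eq_top]; exact le_top)
  refine ⟨v, hv.1, hv1, hv.2.1, ?_⟩
  have := hvk k (Subgroup.mem_zpowers k)
  calc k * v = k * v * k⁻¹ * k := by group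
    _ = v * k := by rw [this]

theorem ord_of_pel [Finite G] {g0 : G} (hg0 : g0 ≠ 1) (hX0 : (X g0).Normal) (hnil : Group.IsNilpotent (X g0))
    {q : ℕ} (hq : q.Prime) (hd : q ∣ Nat.card (X g0)) {k : G} (hk : ∃ j, k ^ q ^ j = 1) (hkX : k ∉ X g0) :
    orderOf k = q := by
  haveI := Fact.mk hq
  obtain ⟨b, hb, hb1, hb2, hb3⟩ := h.exists_fix hX0 hnil hq hd hk
  have hk1 : k ≠ 1 := by rintro rfl; exact hkX (one_mem _)
  have := (h.comm hb1 hk1 hb3.symm (by rw [h.eq hg0 hb hb1]; exact hkX)).2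
  rw [this]; exact orderOf_eq_prime hb2 hb1

/-- no commuting elements of orders `p`, `r` outside -/
theorem no_comm [Finite G] {g0 : G} (hg0 : g0 ≠ 1) (hX0 : (X g0).Normal) (hnil : Group.IsNilpotent (X g0))
    {p r : ℕ} (hp : p.Prime) (hd : p ∣ Nat.card (X g0)) (hr : r.Prime) (hpr : p ≠ r) {a b : G} (ha : a ∉ X g0)
    (hb : b ∉ X g0) (hab : a * b = b * a) (hao : orderOf a = p) (hbo : orderOf b = r) : False := by
  haveI := Fact.mk hp
  have ha1 : a ≠ 1 := by rintro rfl; exact ha (one_mem _)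
  have hb1 : b ≠ 1 := by rintro rfl; exact hb (one_mem _)
  obtain ⟨c, hc, hc1, hc2, hc3⟩ := h.exists_fix hX0 hnil hp hd (k := a) ⟨1, by rw [pow_one, ← hao, pow_orderOf_eq_one]⟩
  have h1 : b ∈ X a := h.mem_of_comm ha1 hb1 hab (by rw [hao, hbo]; exact hpr.symm)
  have h2 : c * b * c⁻¹ ∈ X a := by
    have h3 := h.conj c ha1 h1
    have e : c * a * c⁻¹ = a := by rw [← hc3]; group
    rwa [e] at h3
  have h3 : c * b * c⁻¹ * b⁻¹ ∈ X a := mul_mem h2 (inv_mem h1)
  have h4 : c * b * c⁻¹ * b⁻¹ ∈ X g0 := by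
    have := hX0.conj_mem c⁻¹ (inv_mem hc) b
    have e : c * b * c⁻¹ * b⁻¹ = c * (b * c⁻¹ * b⁻¹) := by group
    rw [e]; exact mul_mem hc this
  have h5 : c * b * c⁻¹ * b⁻¹ = 1 := by
    by_contra hne
    apply ha
    rw [← h.eq_of_mem ha1 hg0 hne h3 h4]
    exact h.mem a
  have h6 : c * b = b * c := by
    calc c * b = c * b * c⁻¹ * b⁻¹ * (b * c) := by group
      _ = b * c := by rw [h5, one_mul]
  have h7 : b ∈ X c := h.mem_of_comm hc1 hb1 h6 (by rw [hbo, orderOf_eq_prime hc2 hc1]; exact hpr.symm)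
  exact hb (by rw [← h.eq hg0 hc hc1]; exact h7)

theorem orderOf_pow_div [Finite G] {w : G} {p : ℕ} (hp : p.Prime) (hd : p ∣ orderOf w) :
    orderOf (w ^ (orderOf w / p)) = p := by
  have hpos := orderOf_pos w
  have hm0 : orderOf w / p ≠ 0 := (Nat.div_pos (Nat.le_of_dvd hpos hd) hp.pos).ne'
  rw [orderOf_pow_of_dvd hm0 (Nat.div_dvd_of_dvd hd), Nat.div_div_self hd hpos.ne']

theorem no_dvd [Finite G] {g0 : G} (hg0 : g0 ≠ 1) (hX0 : (X g0).Normal) (hnil : Group.IsNilpotent (X g0))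
    {p r : ℕ} (hp : p.Prime) (hd : p ∣ Nat.card (X g0)) (hr : r.Prime) (hpr : p ≠ r) {w : G} (hw : w ∉ X g0)
    (h1 : p ∣ orderOf w) (h2 : r ∣ orderOf w) : False := by
  have ha := h.orderOf_pow_div hp h1
  have hb := h.orderOf_pow_div hr h2
  refine h.no_comm hg0 hX0 hnil hp hd hr hpr ?_ ?_ (Commute.pow_pow_self w _ _) ha hb
  · intro hc
    have := h.pow_eq_one hg0 hw hc
    rw [this, orderOf_one] at ha
    exact hp.ne_one ha.symm
  · intro hc
    have := h.pow_eq_one hg0 hw hc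
    rw [this, orderOf_one] at hb
    exact hr.ne_one hb.symm

/-- **a normal component** -/
theorem case_normal [Finite G] {g0 : G} (hg0 : g0 ≠ 1) (hX0 : (X g0).Normal) :
    (∃ p : ℕ, p.Prime ∧ Subgroup.closure {g : G | g ^ p ≠ 1} ≠ ⊤) ∨
      ∃ H : Subgroup G, Cfsg.IsFrobeniusComplement H := by
  classical
  have hX1 : X g0 ≠ ⊥ := by
    intro hb
    have := h.mem g0
    rw [hb, Subgroup.mem_bot] at this
    exact hg0 this
  by_cases hA : ∀ x ∈ X g0, x ≠ 1 → ∀ g, g * x = x * g → g ∈ X g0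
  · exact Or.inr (frobK hX0 hX1 (h.ne_top hg0) hA)
  push Not at hA
  obtain ⟨x, hx, hx1, y, hyx, hy⟩ := hA
  have hy1 : y ≠ 1 := by rintro rfl; exact hy (one_mem _)
  have hcm := h.comm hx1 hy1 hyx.symm (by rw [h.eq hg0 hx hx1]; exact hy)
  obtain ⟨p, hpx⟩ : ∃ p, p = orderOf x := ⟨_, rfl⟩
  rw [← hpx] at hcm
  obtain ⟨hp, hyo⟩ := hcm
  haveI := Fact.mk hp
  have hnil : Group.IsNilpotent (X g0) := h.nilp_of_norm hg0 (fun z hz => hX0.conj_mem z hz y) hy
  have hd : p ∣ Nat.card (X g0) := by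
    have h1 : orderOf (⟨x, hx⟩ : X g0) = p := by rw [Subgroup.orderOf_mk, hpx]
    rw [← h1]; exact orderOf_dvd_natCard _
  -- a minimal normal subgroup
  obtain ⟨W, hWn, hWle, hW1, hWmin⟩ := Cfsg.Agent.Solv.exists_minimal_normal (Wq (X g0) p) (Wq_normal hX0 p)
    (Wq_ne_bot hnil hp hd)
  haveI := hWn
  haveI hCn : (Subgroup.centralizer (W : Set G)).Normal := inferInstance
  have hWp : ∀ w ∈ W, w ^ p = 1 := fun w hw => (hWle hw).2.1
  have hWX : ∀ w ∈ W, w ∈ X g0 := fun w hw => (hWle hw).1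
  have hXC : X g0 ≤ Subgroup.centralizer (W : Set G) := by
    intro z hz
    rw [Subgroup.mem_centralizer_iff]
    intro w hw
    exact (hWle hw).2.2 z hz
  have hordW : ∀ w ∈ W, w ≠ 1 → orderOf w = p := fun w hw hw1 => orderOf_eq_prime (hWp w hw) hw1
  have hndvd := lemK hWn hW1 (fun N hN hNW hN1 => (hWmin N hN hNW).resolve_left hN1) hp hWp
    (fun a ha b hb => (hWle ha).2.2 b (hWX b hb))
    (fun y hy1 hyC w hw => by
      have hyX : y ∉ X g0 := fun hc => hyC (hXC hc)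
      have ho := h.ord_of_pel hg0 hX0 hnil hp hd hy1 hyX
      exact (h.PP_eq_one hg0 (fun z hz => hX0.conj_mem z hz y) hyX (r := p)
        (by rw [← ho, pow_orderOf_eq_one]; exact one_mem _) (hWX w hw)).1)
    (fun s hs hsp e he heC w hw hew => by
      by_contra hw1
      have heX : e ∉ X g0 := fun hc => heC (hXC hc)
      have he1 : e ≠ 1 := by rintro rfl; exact heX (one_mem _)
      have h1 := (h.comm hw1 he1 hew.symm (by rw [h.eq hg0 (hWX w hw) hw1]; exact heX)).2
      rw [hordW w hw hw1] at h1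
      obtain ⟨j, hj⟩ := he
      exact prime_not_dvd_pow hp hs hsp (h1 ▸ orderOf_dvd_of_pow_eq_one hj))
    (fun x s hs hsp h1 h2 => by
      have hxX : x ∉ X g0 := by
        intro hc
        have : QuotientGroup.mk' (Subgroup.centralizer (W : Set G)) x = 1 := (QuotientGroup.eq_one_iff x).2 (hXC hc)
        rw [this, orderOf_one] at h1
        exact hp.ne_one (Nat.dvd_one.1 h1)
      exact h.no_dvd hg0 hX0 hnil hp hd hs (Ne.symm hsp) hxX (h1.trans (orderOf_map_dvd _ _)) (h2.trans (orderOf_map_dvd _ _)))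
  set C := Subgroup.centralizer (W : Set G) with hC
  -- p-elements lie in C
  have hpC : ∀ k : G, (∃ j, k ^ p ^ j = 1) → k ∈ C := by
    rintro k ⟨j, hj⟩
    rw [← QuotientGroup.eq_one_iff, ← orderOf_eq_one_iff]
    have h1 : orderOf (k : G ⧸ C) ∣ p ^ j := orderOf_dvd_of_pow_eq_one (by
      rw [← QuotientGroup.mk_pow, hj]; rfl)
    have h2 : orderOf (k : G ⧸ C) ∣ Nat.card (G ⧸ C) := orderOf_dvd_natCard _
    have h3 : Nat.Coprime (Nat.card (G ⧸ C)) (p ^ j) := ((Nat.Prime.coprime_iff_not_dvd hp).2 hndvd).symm.pow_right j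
    exact Nat.Coprime.eq_one_of_dvd (Nat.Coprime.coprime_dvd_left h2 h3) h1
  obtain ⟨w0, hw0, hw01⟩ := (Subgroup.bot_or_exists_ne_one W).resolve_left hW1
  -- elements of C outside X
  have hout : ∀ k ∈ C, k ∉ X g0 → orderOf k = p := by
    intro k hk hkX
    have hk1 : k ≠ 1 := by rintro rfl; exact hkX (one_mem _)
    have := (h.comm hw01 hk1 ((Subgroup.mem_centralizer_iff.1 hk) w0 hw0) (by rw [h.eq hg0 (hWX w0 hw0) hw01]; exact hkX)).2
    rw [this, hordW w0 hw0 hw01]
  have hyC : y ∈ C := hpC y ⟨1, by rw [pow_one, ← hyo, pow_orderOf_eq_one]⟩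
  by_cases hCt : C = ⊤
  · left
    refine ⟨p, hp, ?_⟩
    intro htop
    apply h.ne_top hg0
    rw [eq_top_iff, ← htop, Subgroup.closure_le]
    intro g hg
    by_contra hgX
    apply hg
    rw [← hout g (by rw [hCt]; trivial) hgX, pow_orderOf_eq_one]
  right
  -- X is a p-group
  have hXp : ∀ s : ℕ, s.Prime → s ∣ Nat.card (X g0) → s = p := by
    intro s hs hsd
    by_contra hsp
    have hcard1 : Nat.card (G ⧸ C) ≠ 1 := by
      rw [← Subgroup.index_eq_card, Ne, Subgroup.index_eq_one]; exact hCt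
    obtain ⟨r, hr, hrd⟩ := Nat.exists_prime_and_dvd hcard1
    have hrp : r ≠ p := by rintro rfl; exact hndvd hrd
    obtain ⟨g1, ⟨j, hj⟩, hg1⟩ := exists_lift_q C hr hrd
    have hg1C : g1 ∉ C := mk_ne hr hg1
    have hg1X : g1 ∉ X g0 := fun hc => hg1C (hXC hc)
    have hg1r : g1 ^ r = 1 := by
      apply h.pow_eq_one hg0 hg1X
      by_contra hc
      have hc2 : g1 ^ r ∈ C := by
        rw [← QuotientGroup.eq_one_iff, QuotientGroup.mk_pow, ← QuotientGroup.mk'_apply, ← hg1, pow_orderOf_eq_one]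
      have ho := hout _ hc2 hc
      apply prime_not_dvd_pow (j := j) hp hr hrp
      rw [← ho]
      apply orderOf_dvd_of_pow_eq_one
      rw [← pow_mul, mul_comm, pow_mul, hj, one_pow]
    have hg1n : ∀ i, 0 < i → i < r → g1 ^ i ∉ X g0 := by
      intro i hi0 hir hc
      have h1 : (QuotientGroup.mk' C g1) ^ i = 1 := by
        rw [← map_pow]; exact (QuotientGroup.eq_one_iff _).2 (hXC hc)
      have h2 := orderOf_dvd_of_pow_eq_one h1
      rw [hg1] at h2
      exact absurd (Nat.le_of_dvd hi0 h2) (by omega)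
    haveI := hX0
    haveI := Fact.mk hr
    have hall := phiG (W := Wq (X g0) s) (Z := X g0) (E := C) (Wq_normal hX0 s) hX0
      (fun a ha b hb => ha.2.2 b hb.1) (fun z hz w hw => (hw.2.2 z hz).symm) (g := g1) (r := r) hr.pos
      (fun e he => hCn.conj_mem e he g1)
      (fun i hi0 hir e he hcm => by
        by_contra heX
        have heo := hout e he heX
        have hoe : orderOf (QuotientGroup.mk' (X g0) e) = p := by
          apply orderOf_eq_prime
          · rw [← map_pow, ← heo, pow_orderOf_eq_one, map_one]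
          · intro hc; exact heX ((QuotientGroup.eq_one_iff e).1 hc)
        have hog : orderOf (QuotientGroup.mk' (X g0) (g1 ^ i)) = r := by
          apply orderOf_eq_prime
          · rw [← map_pow, ← pow_mul, mul_comm, pow_mul, hg1r, one_pow, map_one]
          · intro hc; exact hg1n i hi0 hir ((QuotientGroup.eq_one_iff _).1 hc)
        have hcomm : Commute (QuotientGroup.mk' (X g0) (g1 ^ i)) (QuotientGroup.mk' (X g0) e) := by
          show QuotientGroup.mk' (X g0) (g1 ^ i) * QuotientGroup.mk' (X g0) e =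
            QuotientGroup.mk' (X g0) e * QuotientGroup.mk' (X g0) (g1 ^ i)
          have h3 : QuotientGroup.mk' (X g0) (g1 ^ i * e * (g1 ^ i)⁻¹ * e⁻¹) = 1 := (QuotientGroup.eq_one_iff _).2 hcm
          rw [← map_mul, ← map_mul]
          calc QuotientGroup.mk' (X g0) (g1 ^ i * e) =
              QuotientGroup.mk' (X g0) ((g1 ^ i * e * (g1 ^ i)⁻¹ * e⁻¹) * (e * g1 ^ i)) := by congr 1; group
            _ = QuotientGroup.mk' (X g0) (e * g1 ^ i) := by rw [map_mul, h3, one_mul]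
        have hord : orderOf (QuotientGroup.mk' (X g0) (g1 ^ i * e)) = r * p := by
          rw [map_mul, hcomm.orderOf_mul_eq_mul_orderOf_of_coprime, hoe, hog]
          rw [hoe, hog]
          exact (Nat.coprime_primes hr hp).2 hrp
        have hwX : g1 ^ i * e ∉ X g0 := by
          intro hc
          have : QuotientGroup.mk' (X g0) (g1 ^ i * e) = 1 := (QuotientGroup.eq_one_iff _).2 hc
          rw [this, orderOf_one] at hord
          have := hr.one_lt
          have := hp.one_lt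
          nlinarith
        have hdv : r * p ∣ orderOf (g1 ^ i * e) := by rw [← hord]; exact orderOf_map_dvd _ _
        exact h.no_dvd hg0 hX0 hnil hp hd hr (Ne.symm hrp) hwX ((dvd_mul_left _ _).trans hdv) ((dvd_mul_right _ _).trans hdv))
      (fun e he w hw => by
        have h1 : e * g1 * e⁻¹ ∉ X g0 := by
          intro hc
          apply hg1X
          have := hX0.conj_mem _ hc e⁻¹
          have e1 : e⁻¹ * (e * g1 * e⁻¹) * e⁻¹⁻¹ = g1 := by group
          rwa [e1] at this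
        exact (h.PP_eq_one hg0 (fun z hz => hX0.conj_mem z hz _) h1 (r := r)
          (by rw [conj_pow, hg1r]; simp) hw.1).1)
      (fun w hw hcw => by
        by_contra hw1
        have h1 := (h.comm hw1 hy1 (hcw y hyC).symm (by rw [h.eq hg0 hw.1 hw1]; exact hy)).2
        haveI := Fact.mk hs
        rw [hyo, orderOf_eq_prime hw.2.1 hw1] at h1
        exact hsp h1.symm)
    have hpg : IsPGroup p (C.map (QuotientGroup.mk' (X g0))) := by
      rintro ⟨_, e, he, rfl⟩
      refine ⟨1, Subtype.ext ?_⟩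
      show (QuotientGroup.mk' (X g0) e) ^ p ^ 1 = 1
      rw [pow_one, ← map_pow, QuotientGroup.mk'_apply, QuotientGroup.eq_one_iff]
      by_cases heX : e ∈ X g0
      · exact pow_mem heX p
      · rw [← hout e he heX, pow_orderOf_eq_one]; exact one_mem _
    obtain ⟨k, hk⟩ := hpg.exists_card_eq
    apply Wq_ne_bot hnil hs hsd
    rw [eq_bot_iff]
    intro w hw
    rw [Subgroup.mem_bot]
    have h3 := hall w hw
    rw [hk] at h3
    have h4 : orderOf w ∣ s := orderOf_dvd_of_pow_eq_one hw.2.1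
    have h5 : orderOf w ∣ p ^ k := orderOf_dvd_of_pow_eq_one h3
    have h6 : Nat.Coprime s (p ^ k) := ((Nat.coprime_primes hs hp).2 hsp).pow_right k
    exact orderOf_eq_one_iff.1 (Nat.Coprime.eq_one_of_dvd (Nat.Coprime.coprime_dvd_left h4 h6) h5)
  have hXpg : IsPGroup p (X g0) := by
    have := Nat.eq_prime_pow_of_unique_prime_dvd (n := Nat.card (X g0)) (p := p) Nat.card_pos.ne'
      (fun {d} hd1 hd2 => hXp d hd1 hd2)
    exact IsPGroup.of_card this
  have hCpg : ∀ k ∈ C, ∃ j, k ^ p ^ j = 1 := by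
    intro k hk
    by_cases hkX : k ∈ X g0
    · obtain ⟨j, hj⟩ := hXpg ⟨k, hkX⟩
      exact ⟨j, by have := congrArg Subtype.val hj; simpa using this⟩
    · exact ⟨1, by rw [pow_one, ← hout k hk hkX, pow_orderOf_eq_one]⟩
  refine frobK hCn ?_ hCt ?_
  · intro hb
    rw [hb, Subgroup.mem_bot] at hyC
    exact hy1 hyC
  · intro c hc hc1 g hgc
    by_contra hgC
    -- a power of prime order r
    have hn1 : orderOf (QuotientGroup.mk' C g) ≠ 1 := by
      rw [Ne, orderOf_eq_one_iff]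
      intro hc; exact hgC ((QuotientGroup.eq_one_iff g).1 hc)
    obtain ⟨r, hr, hrd⟩ := Nat.exists_prime_and_dvd hn1
    have hrp : r ≠ p := by
      rintro rfl; exact hndvd (hrd.trans (orderOf_dvd_natCard _))
    have hrg : r ∣ orderOf g := hrd.trans (orderOf_map_dvd _ _)
    have hg'o := h.orderOf_pow_div hr hrg
    have hpc : p ∣ orderOf c := by
      obtain ⟨j, hj⟩ := hCpg c hc
      obtain ⟨m, -, hm⟩ := (Nat.dvd_prime_pow hp).1 (orderOf_dvd_of_pow_eq_one hj)
      have hm0 : m ≠ 0 := by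
        rintro rfl
        rw [pow_zero, orderOf_eq_one_iff] at hm
        exact hc1 hm
      rw [hm]; exact dvd_pow_self p hm0
    have hc'o := h.orderOf_pow_div hp hpc
    have hcomm : Commute (c ^ (orderOf c / p)) (g ^ (orderOf g / r)) := ((show Commute c g from hgc.symm).pow_pow _ _)
    have hg'C : g ^ (orderOf g / r) ∉ C := by
      intro hcc
      obtain ⟨j, hj⟩ := hCpg _ hcc
      have := orderOf_dvd_of_pow_eq_one hj
      rw [hg'o] at this
      exact prime_not_dvd_pow hr hp (Ne.symm hrp) this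
    have hg'X : g ^ (orderOf g / r) ∉ X g0 := fun hcc => hg'C (hXC hcc)
    have hg'1 : g ^ (orderOf g / r) ≠ 1 := by
      intro e; rw [e] at hg'X; exact hg'X (one_mem _)
    have hc'1 : c ^ (orderOf c / p) ≠ 1 := by
      intro e; rw [e, orderOf_one] at hc'o; exact hp.ne_one hc'o.symm
    by_cases hc'X : c ^ (orderOf c / p) ∈ X g0
    · have := (h.comm hc'1 hg'1 hcomm (by rw [h.eq hg0 hc'X hc'1]; exact hg'X)).2
      rw [hg'o, hc'o] at this
      exact hrp this
    · exact h.no_comm hg0 hX0 hnil hp hd hr (Ne.symm hrp) hc'X hg'X hcomm hc'o hg'o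

end NP

end Cfsg.Agent.Ptn
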