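import Mathlib
import Cfsg.Agent.Ptn.NormComp

/-!
Groups with a nontrivial partition: every involution commutes with an element outside its component.
-/

set_option autoImplicit false

namespace Cfsg.Agent.Ptn

variable {G : Type*} [Group G] {X : G → Subgroup G}

theorem card_dvd_of_free {K β : Type*} [Group K] [MulAction K β] [Finite K] [Finite β]
    (hfree : ∀ (k : K) (b : β), k • b = b → k = 1) : Nat.card K ∣ Nat.card β := by
  classical
  haveI : Fintype K := Fintype.ofFinite K
  haveI : Fintype β := Fintype.ofFinite β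
  rw [Nat.card_eq_fintype_card, Nat.card_eq_fintype_card,
    MulAction.card_eq_sum_card_group_div_card_stabilizer K β]
  apply Finset.dvd_sum
  intro ω _
  have h1 : Fintype.card (MulAction.stabilizer K (Quotient.out ω)) = 1 := by
    rw [← Nat.card_eq_fintype_card, Subgroup.card_eq_one, eq_bot_iff]
    intro k hk
    exact Subgroup.mem_bot.2 (hfree k _ hk)
  rw [h1, Nat.div_one]

theorem mul_self_of_two {t : G} (ht : orderOf t = 2) : t * t = 1 := by
  rw [← pow_two, ← ht, pow_orderOf_eq_one]

theorem ne_one_of_two {t : G} (ht : orderOf t = 2) : t ≠ 1 := by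
  rintro rfl; simp at ht

theorem two_of_mul_self {t : G} (ht : t * t = 1) (h1 : t ≠ 1) : orderOf t = 2 :=
  haveI := Fact.mk Nat.prime_two
  orderOf_eq_prime (by rw [pow_two, ht]) h1

namespace NP

variable (h : NP X)
include h

theorem ord2 [Finite G] {t c : G} (ht : orderOf t = 2) (hc : c * t = t * c) (hcX : c ∉ X t) : c * c = 1 := by
  have hc1 : c ≠ 1 := by rintro rfl; exact hcX (one_mem _)
  have := (h.comm (ne_one_of_two ht) hc1 hc.symm hcX).2
  exact mul_self_of_two (this.trans ht)

theorem inv_of [Finite G] {t c y : G} (ht : orderOf t = 2) (hc : c * t = t * c) (hcX : c ∉ X t) (hy : y ∈ X t)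
    (hyt : y * t = t * y) : c * y * c⁻¹ = y⁻¹ := by
  have h1 := h.ord2 ht hc hcX
  have h2 : c * y ∉ X t := by
    intro hcy
    apply hcX
    have := mul_mem hcy (inv_mem hy)
    simpa using this
  have h3 : c * y * (c * y) = 1 := by
    apply h.ord2 ht _ h2
    rw [mul_assoc, hyt, ← mul_assoc, hc, mul_assoc]
  have h4 : c⁻¹ = c := inv_eq_of_mul_eq_one_left h1
  rw [h4]
  rw [← mul_assoc] at h3
  exact eq_inv_of_mul_eq_one_left h3

end NP

/-- `c` commutes with `s` inside `X s` or outside -/
theorem NP.elem_of_two [Finite G] (h : NP X) {s v₁ v₂ e : G} (hs : orderOf s = 2)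
    (h1 : v₁ * s = s * v₁) (h2 : v₂ * s = s * v₂) (n1 : v₁ ∉ X s) (n2 : v₂ ∉ X s) (n3 : v₁ * v₂ ∉ X s)
    (he : e * s = s * e) : e * e = 1 := by
  by_cases hes : e ∈ X s
  · have e1 := h.inv_of hs h1 n1 hes he
    have e2 := h.inv_of hs h2 n2 hes he
    have e3 := h.inv_of hs (c := v₁ * v₂) (by rw [mul_assoc, h2, ← mul_assoc, h1, mul_assoc]) n3 hes he
    have e4 : v₁ * v₂ * e * (v₁ * v₂)⁻¹ = e := by
      calc v₁ * v₂ * e * (v₁ * v₂)⁻¹ = v₁ * (v₂ * e * v₂⁻¹) * v₁⁻¹ := by group
        _ = (v₁ * e * v₁⁻¹)⁻¹ := by rw [e2]; group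
        _ = e := by rw [e1, inv_inv]
    rw [e4] at e3
    nth_rewrite 1 [e3]
    exact inv_mul_cancel e
  · exact h.ord2 hs he hes

theorem exists_central_involution [Finite G] {a : G} (hnil : Group.IsNilpotent (X a)) (hmem : a ∈ X a)
    (ha : 2 ∣ orderOf a) : ∃ v ∈ X a, orderOf v = 2 ∧ ∀ y ∈ X a, v * y = y * v := by
  have hd : 2 ∣ Nat.card (X a) := by
    have h1 := orderOf_dvd_natCard (⟨a, hmem⟩ : X a)
    rw [Subgroup.orderOf_mk] at h1
    exact ha.trans h1
  obtain ⟨v, hv, hv1⟩ := (Subgroup.bot_or_exists_ne_one _).resolve_left (Wq_ne_bot hnil Nat.prime_two hd)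
  rw [mem_Wq] at hv
  exact ⟨v, hv.1, two_of_mul_self (by rw [← pow_two, hv.2.1]) hv1, hv.2.2⟩

/-- a 2-element normalizing a nilpotent subgroup of even order commutes with an involution of it -/
theorem exists_fixed_involution [Finite G] {A : Subgroup G} (hnil : Group.IsNilpotent A) (hd : 2 ∣ Nat.card A) {m : G}
    (hm : ∀ x ∈ A, m * x * m⁻¹ ∈ A) {k : ℕ} (hk : m ^ 2 ^ k = 1) :
    ∃ w ∈ A, orderOf w = 2 ∧ m * w = w * m := by
  haveI := Fact.mk Nat.prime_two
  have hT : IsPGroup 2 (Subgroup.zpowers m) := by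
    obtain ⟨j, -, hj⟩ := (Nat.dvd_prime_pow Nat.prime_two).1 (orderOf_dvd_of_pow_eq_one hk)
    rw [IsPGroup.iff_card]
    exact ⟨j, by rw [Nat.card_zpowers, hj]⟩
  have hV : IsPGroup 2 (Wq A 2) := fun x => ⟨1, by rw [pow_one]; exact Subtype.ext x.2.2.1⟩
  have hmn : m ∈ Subgroup.normalizer (A : Set G) := by
    have h1 : A.map (MulAut.conj m).toMonoidHom ≤ A := by
      rintro _ ⟨x, hx, rfl⟩
      exact hm x hx
    have h2 : A.map (MulAut.conj m).toMonoidHom = A := by
      apply Subgroup.eq_of_le_of_card_ge h1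
      rw [Subgroup.card_map_of_injective (MulAut.conj m).injective]
    rw [Subgroup.mem_normalizer_iff]
    intro x
    constructor
    · exact hm x
    · intro hx
      rw [← SetLike.mem_coe, ← h2] at hx
      obtain ⟨y, hy, hyx⟩ := hx
      have : y = x := (MulAut.conj m).injective hyx
      rwa [← this]
  have hTV : Subgroup.zpowers m ≤ Subgroup.normalizer (Wq A 2 : Set G) := by
    rw [Subgroup.zpowers_le, Subgroup.mem_normalizer_iff]
    have key : ∀ n ∈ Subgroup.normalizer (A : Set G), ∀ x, x ∈ Wq A 2 → n * x * n⁻¹ ∈ Wq A 2 := by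
      intro n hn x hx
      rw [mem_Wq] at hx ⊢
      refine ⟨(Subgroup.mem_normalizer_iff.1 hn x).1 hx.1, ?_, ?_⟩
      · rw [conj_pow, hx.2.1]; group
      · intro z hz
        have hz' : n⁻¹ * z * n ∈ A := by
          have := (Subgroup.mem_normalizer_iff.1 (inv_mem hn) z).1 hz
          rwa [inv_inv] at this
        calc n * x * n⁻¹ * z = n * (x * (n⁻¹ * z * n)) * n⁻¹ := by group
          _ = n * ((n⁻¹ * z * n) * x) * n⁻¹ := by rw [hx.2.2 _ hz']
          _ = z * (n * x * n⁻¹) := by group
    intro x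
    constructor
    · exact key m hmn x
    · intro hx
      have := key m⁻¹ (inv_mem hmn) _ hx
      have e : m⁻¹ * (m * x * m⁻¹) * m⁻¹⁻¹ = x := by group
      rwa [e] at this
  obtain ⟨v, hv, hv1, hvk⟩ := Cfsg.Agent.H67.exists_fixed_of_pgroup (p := 2) (Subgroup.zpowers m) (Wq A 2) hT hV
    (Wq_ne_bot hnil Nat.prime_two hd) hTV
  rw [mem_Wq] at hv
  refine ⟨v, hv.1, two_of_mul_self (by rw [← pow_two, hv.2.1]) hv1, ?_⟩
  have := hvk m (Subgroup.mem_zpowers m)
  calc m * v = m * v * m⁻¹ * m := by group
    _ = v * m := by rw [this]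

section

variable [Finite G] (h : NP X) (hout : ∀ t : G, orderOf t = 2 → ∃ c, c * t = t * c ∧ c ∉ X t)
  (hnil : ∀ g : G, g ≠ 1 → Group.IsNilpotent (X g))
include h hout hnil

theorem struct_two {a : G} (ha : 2 ∣ orderOf a) (ha1 : a ≠ 1) (ha2 : a * a ≠ 1) :
    (∀ y ∈ X a, ∀ z ∈ X a, y * z = z * y) ∧
      ∀ m ∈ Subgroup.normalizer (X a : Set G), (∀ y ∈ X a, m * y * m⁻¹ = y) ∨ (∀ y ∈ X a, m * y * m⁻¹ = y⁻¹) := by
  classical
  obtain ⟨v, hv, hv2, hvc⟩ := exists_central_involution (hnil a ha1) (h.mem a) ha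
  have hv1 := ne_one_of_two hv2
  have hXv : X v = X a := h.eq ha1 hv hv1
  obtain ⟨c, hcv, hcX⟩ := hout v hv2
  have hinv : ∀ y ∈ X a, c * y * c⁻¹ = y⁻¹ := by
    intro y hy
    exact h.inv_of hv2 hcv hcX (hXv ▸ hy) (hvc y hy).symm
  have hcomm : ∀ y ∈ X a, ∀ z ∈ X a, y * z = z * y := by
    intro y hy z hz
    have h1 := hinv _ (mul_mem hy hz)
    have h2 : c * (y * z) * c⁻¹ = (z * y)⁻¹ := by
      calc c * (y * z) * c⁻¹ = (c * y * c⁻¹) * (c * z * c⁻¹) := by group
        _ = (z * y)⁻¹ := by rw [hinv y hy, hinv z hz]; group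
    exact inv_injective (h1.symm.trans h2)
  refine ⟨hcomm, ?_⟩
  -- elements commuting with an involution of `X a`
  have hX : ∀ w ∈ X a, w ≠ 1 → X w = X a := fun w hw hw1 => h.eq ha1 hw hw1
  have hcen : ∀ w ∈ X a, orderOf w = 2 → ∀ m, m * w = w * m →
      (∀ y ∈ X a, m * y * m⁻¹ = y) ∨ (∀ y ∈ X a, m * y * m⁻¹ = y⁻¹) := by
    intro w hw hw2 m hm
    by_cases hmX : m ∈ X a
    · left
      intro y hy
      rw [hcomm m hmX y hy, mul_inv_cancel_right]
    · right
      intro y hy
      have e := hX w hw (ne_one_of_two hw2)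
      exact h.inv_of hw2 hm (by rwa [e]) (by rwa [e]) (hcomm y hy w hw)
  have hvv : v⁻¹ = v := inv_eq_of_mul_eq_one_left (mul_self_of_two hv2)
  have hcen' : ∀ w ∈ X a, orderOf w = 2 → ∀ m, m * w = w * m → m * v = v * m := by
    intro w hw hw2 m hm
    have h1 : m * v * m⁻¹ = v := by
      rcases hcen w hw hw2 m hm with h1 | h1
      · exact h1 v hv
      · rw [h1 v hv, hvv]
    calc m * v = m * v * m⁻¹ * m := by group
      _ = v * m := by rw [h1]
  intro m hm
  apply hcen v hv hv2
  by_cases huniq : ∀ w ∈ X a, orderOf w = 2 → w = v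
  · have h1 : m * v * m⁻¹ = v := by
      apply huniq
      · exact (Subgroup.mem_normalizer_iff.1 hm v).1 hv
      · apply two_of_mul_self
        · calc m * v * m⁻¹ * (m * v * m⁻¹) = m * (v * v) * m⁻¹ := by group
            _ = 1 := by rw [mul_self_of_two hv2]; group
        · exact cj_ne hv1
    calc m * v = m * v * m⁻¹ * m := by group
      _ = v * m := by rw [h1]
  · push Not at huniq
    obtain ⟨v2, hv2X, hv22, hv2v⟩ := huniq
    have hF : ∀ s, s ∉ X a → s * v = v * s → ∀ e, e * s = s * e → e * e = 1 := by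
      intro s hs hsv e he
      have hss : s * s = 1 := h.ord2 hv2 hsv (by rwa [hXv])
      have hs1 : s ≠ 1 := by rintro rfl; exact hs (one_mem _)
      have hs2 := two_of_mul_self hss hs1
      have hnot : ∀ w ∈ X a, w ≠ 1 → w ∉ X s := by
        intro w hw hw1 hws
        apply hs
        rw [← hX w hw hw1, h.eq hs1 hws hw1]
        exact h.mem s
      have hsinv : ∀ w ∈ X a, w * w = 1 → w * s = s * w := by
        intro w hw hww
        have h1 := h.inv_of hv2 hsv (by rwa [hXv]) (hXv ▸ hw) (hvc w hw).symm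
        have hwi : w⁻¹ = w := inv_eq_of_mul_eq_one_left hww
        rw [hwi] at h1
        calc w * s = s * w * s⁻¹ * s := by rw [h1]
          _ = s * w := by group
      have m2 := mul_self_of_two hv2
      have m22 := mul_self_of_two hv22
      refine h.elem_of_two hs2 (hsinv v hv m2) (hsinv v2 hv2X m22) (hnot v hv hv1)
        (hnot v2 hv2X (ne_one_of_two hv22)) (hnot _ (mul_mem hv hv2X) ?_) he
      intro hvv2
      apply hv2v
      have := eq_inv_of_mul_eq_one_right hvv2
      rw [this, hvv]
    set Y := Subgroup.centralizer ({v} : Set G) with hY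
    have hYm : ∀ g, g ∈ Y ↔ g * v = v * g := fun g => by
      rw [hY, Subgroup.mem_centralizer_singleton_iff]
    have hYM : Y ≤ Subgroup.normalizer (X a : Set G) := by
      intro g hg
      rw [NP.mem_normalizer]
      intro x hx
      exact h.norm_of_comm ha1 hv hv1 ((hYm g).1 hg) hx
    have hcard : Nat.card (Subgroup.normalizer (X a : Set G)) ∣ Nat.card Y := by
      rw [Nat.dvd_iff_prime_pow_dvd_dvd]
      intro p k hp hpk
      haveI := Fact.mk hp
      obtain ⟨K', hK'⟩ := Sylow.exists_subgroup_card_pow_prime (G := Subgroup.normalizer (X a : Set G)) p hpk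
      set K := K'.map (Subgroup.normalizer (X a : Set G)).subtype with hK
      have hKc : Nat.card K = p ^ k := by
        rw [hK, Subgroup.card_map_of_injective (Subgroup.subtype_injective _), hK']
      have hKM : K ≤ Subgroup.normalizer (X a : Set G) := by
        rw [hK]; exact Subgroup.map_subtype_le K'
      by_cases hp2 : p = 2
      · subst hp2
        rw [← hKc]
        apply Subgroup.card_dvd_of_le
        intro g hg
        have hgk : g ^ 2 ^ k = 1 := by
          have := pow_card_eq_one' (x := (⟨g, hg⟩ : K))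
          rw [hKc] at this
          simpa using congrArg Subtype.val this
        have hd : 2 ∣ Nat.card (X a) := by
          have h1 := orderOf_dvd_natCard (⟨a, h.mem a⟩ : X a)
          rw [Subgroup.orderOf_mk] at h1
          exact ha.trans h1
        obtain ⟨w, hw, hw2, hgw⟩ := exists_fixed_involution (hnil a ha1) hd (NP.mem_normalizer.1 (hKM hg)) hgk
        rw [hYm]
        exact hcen' w hw hw2 g hgw
      · -- free action
        have hact : ∀ k ∈ K, ∀ s, s ∈ Y ∧ s ∉ X a → k * s * k⁻¹ ∈ Y ∧ k * s * k⁻¹ ∉ X a := by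
          rintro g hg s ⟨hs, hsX⟩
          have hgn := Subgroup.mem_normalizer_iff.1 (hKM hg)
          refine ⟨?_, fun hc => hsX ((hgn s).2 hc)⟩
          rw [hYm] at hs ⊢
          apply hcen' (g * v * g⁻¹) ((hgn v).1 hv)
          · apply two_of_mul_self
            · calc g * v * g⁻¹ * (g * v * g⁻¹) = g * (v * v) * g⁻¹ := by group
                _ = 1 := by rw [mul_self_of_two hv2]; group
            · exact cj_ne hv1
          · calc g * s * g⁻¹ * (g * v * g⁻¹) = g * (s * v) * g⁻¹ := by group
              _ = g * v * g⁻¹ * (g * s * g⁻¹) := by rw [hs]; group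
        let act : MulAction K {s : G // s ∈ Y ∧ s ∉ X a} :=
          { smul := fun k s => ⟨k * s * (k : G)⁻¹, hact k k.2 s s.2⟩
            one_smul := fun s => by
              apply Subtype.ext
              show ((1 : K) : G) * s * ((1 : K) : G)⁻¹ = s
              simp
            mul_smul := fun k l s => by
              apply Subtype.ext
              show ((k * l : K) : G) * s * ((k * l : K) : G)⁻¹ = k * (l * s * (l : G)⁻¹) * (k : G)⁻¹
              push_cast
              group }
        have hdv : Nat.card K ∣ Nat.card {s : G // s ∈ Y ∧ s ∉ X a} := by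
          apply card_dvd_of_free
          rintro k ⟨s, hs, hsX⟩ hks
          have h1 : (k : G) * s * (k : G)⁻¹ = s := congrArg Subtype.val hks
          have h2 : (k : G) * s = s * k := by
            calc (k : G) * s = (k : G) * s * (k : G)⁻¹ * k := by group
              _ = s * k := by rw [h1]
          have h3 := hF s hsX ((hYm s).1 hs) k h2
          apply Subtype.ext
          by_contra hk1
          have h4 : orderOf (k : G) = 2 := two_of_mul_self h3 hk1
          have h5 : orderOf k ∣ Nat.card K := orderOf_dvd_natCard k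
          rw [← Subgroup.orderOf_coe, h4, hKc] at h5
          exact hp2 ((Nat.prime_dvd_prime_iff_eq Nat.prime_two hp).1 (Nat.prime_two.dvd_of_dvd_pow h5)).symm
        rw [← hKc]
        refine hdv.trans ?_
        have hce : Nat.card {s : G // s ∈ Y ∧ s ∉ X a} = Nat.card (X a) := by
          have hcc : c * c = 1 := h.ord2 hv2 hcv hcX
          refine Nat.card_congr
            { toFun := fun s => ⟨c * s, ?_⟩
              invFun := fun x => ⟨c * x, ?_, ?_⟩
              left_inv := fun s => Subtype.ext (by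
                show c * (c * (s : G)) = s
                rw [← mul_assoc, hcc, one_mul])
              right_inv := fun x => Subtype.ext (by
                show c * (c * (x : G)) = x
                rw [← mul_assoc, hcc, one_mul]) }
          · obtain ⟨s, hs, hsX⟩ := s
            show c * s ∈ X a
            by_contra hcon
            have hs' := (hYm s).1 hs
            have hss : s * s = 1 := h.ord2 hv2 hs' (by rwa [hXv])
            have i1 : ∀ y ∈ X a, s * y * s⁻¹ = y⁻¹ := fun y hy =>
              h.inv_of hv2 hs' (by rwa [hXv]) (hXv ▸ hy) (hvc y hy).symm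
            have i2 : ∀ y ∈ X a, (c * s) * y * (c * s)⁻¹ = y⁻¹ := fun y hy =>
              h.inv_of hv2 (c := c * s) (by rw [mul_assoc, hs', ← mul_assoc, hcv, mul_assoc]) (by rwa [hXv]) (hXv ▸ hy)
                (hvc y hy).symm
            apply ha2
            have j1 := i2 a (h.mem a)
            have j2 : c * s * a * (c * s)⁻¹ = a := by
              calc c * s * a * (c * s)⁻¹ = c * (s * a * s⁻¹) * c⁻¹ := by group
                _ = (c * a * c⁻¹)⁻¹ := by rw [i1 a (h.mem a)]; group
                _ = a := by rw [hinv a (h.mem a), inv_inv]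
            rw [j2] at j1
            nth_rewrite 1 [j1]
            exact inv_mul_cancel a
          · rw [hYm, mul_assoc, ← hvc x x.2, ← mul_assoc, hcv, mul_assoc]
          · intro hcon
            rw [hXv] at hcX
            apply hcX
            have := mul_mem hcon (inv_mem x.2)
            simpa using this
        rw [hce]
        exact Subgroup.card_dvd_of_le (fun x hx => (hYm x).2 (hvc x hx).symm)
    have hle := Nat.le_of_dvd Nat.card_pos hcard
    have heq : Y = Subgroup.normalizer (X a : Set G) := Subgroup.eq_of_le_of_card_ge hYM hle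
    exact (hYm m).1 (heq ▸ hm)

end

end Cfsg.Agent.Ptn
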