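import Mathlib
import Cfsg.Agent.Ptn.CaseTwo
import Cfsg.Agent.H68.BS4G
import Cfsg.Agent.RK.SE

/-!
Groups with a nontrivial partition: every involution centralizes only elements of its component.
-/

set_option autoImplicit false

namespace Cfsg.Agent.Ptn

open Cfsg

variable {G : Type*} [Group G] {X : G → Subgroup G}

structure C1 (X : G → Subgroup G) (z : G) : Prop where
  np : NP X
  hz : orderOf z = 2
  hC : ∀ t : G, orderOf t = 2 → ∀ c, c * t = t * c → c ∈ X t
  hnil : ∀ g : G, g ≠ 1 → Group.IsNilpotent (X g)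
  ns : ∀ N : Subgroup G, N.Normal → Group.IsSolvable ↥N → N = ⊥

namespace C1

variable [Finite G] {z : G} (C : C1 X z)
include C

theorem z1 : z ≠ 1 := ne_one_of_two C.hz

theorem two_dvd : 2 ∣ Nat.card (X z) := by
  have h1 := orderOf_dvd_natCard (⟨z, C.np.mem z⟩ : X z)
  rwa [Subgroup.orderOf_mk, C.hz] at h1

theorem H_ne_top : Subgroup.normalizer (X z : Set G) ≠ ⊤ := by
  intro e
  have h1 : (X z).Normal := Subgroup.normalizer_eq_top_iff.1 e
  have := C.hnil z C.z1
  have h2 := C.ns (X z) h1 inferInstance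
  have := C.np.mem z
  rw [h2, Subgroup.mem_bot] at this
  exact C.z1 this

theorem memH {k : G} : k ∈ Subgroup.normalizer (X z : Set G) ↔ ∀ x ∈ X z, k * x * k⁻¹ ∈ X z :=
  NP.mem_normalizer

theorem X_le : X z ≤ Subgroup.normalizer (X z : Set G) := Subgroup.le_normalizer

/-- involutions of `H` lie in `X z` -/
theorem inv_mem' {t : G} (ht : orderOf t = 2) (htH : t ∈ Subgroup.normalizer (X z : Set G)) : t ∈ X z := by
  obtain ⟨w, hw, hw2, htw⟩ := exists_fixed_involution (C.hnil z C.z1) C.two_dvd (C.memH.1 htH) (k := 1)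
    (by rw [pow_one, pow_two, mul_self_of_two ht])
  have := C.hC w hw2 t htw
  rwa [C.np.eq C.z1 hw (ne_one_of_two hw2)] at this

theorem mem_of {g y : G} (hy : y ∈ X z) (hy1 : y ≠ 1) (hg : g * y * g⁻¹ ∈ X z) :
    g ∈ Subgroup.normalizer (X z : Set G) :=
  C.memH.2 (fun _ hx => C.np.norm_of C.z1 hy hy1 hg hx)

theorem se : IsStronglyEmbedded (Subgroup.normalizer (X z : Set G)) := by
  have := Fact.mk Nat.prime_two
  refine ⟨C.H_ne_top, even_iff_two_dvd.2 (C.two_dvd.trans (Subgroup.card_dvd_of_le C.X_le)), ?_⟩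
  intro g hg
  by_contra hodd
  rw [Nat.not_odd_iff_even] at hodd
  obtain ⟨t, ht⟩ := exists_prime_orderOf_dvd_card' 2 (even_iff_two_dvd.1 hodd)
  have ht2 : orderOf (t : G) = 2 := by rw [Subgroup.orderOf_coe, ht]
  obtain ⟨h1, h2⟩ := Subgroup.mem_inf.1 t.2
  generalize (t : G) = t at ht2 h1 h2
  rw [H21.mem_map_conj] at h2
  have h3 := C.inv_mem' ht2 h1
  have h4 := C.inv_mem' (t := g⁻¹ * t * g) (by
    have := StrEmb.orderOf_conj g⁻¹ t
    rw [inv_inv] at this
    rw [this, ht2]) h2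
  apply hg
  apply C.mem_of h4
  · intro e
    apply ne_one_of_two ht2
    calc t = g * (g⁻¹ * t * g) * g⁻¹ := by group
      _ = 1 := by rw [e]; group
  · have e : g * (g⁻¹ * t * g) * g⁻¹ = t := by group
    rw [e]; exact h3

theorem key3 {t d : G} (ht : orderOf t = 2) (htH : t ∉ Subgroup.normalizer (X z : Set G)) (hd : d ∈ X z)
    (htd : t * d * t ∈ Subgroup.normalizer (X z : Set G)) : d = 1 := by
  by_contra hd1
  have htt := mul_self_of_two ht
  have hti : t⁻¹ = t := inv_eq_of_mul_eq_one_left htt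
  set e := t * d * t with he
  have hz1 := C.z1
  -- `X z ∩ X (t z t⁻¹) = 1`
  have hdis : ∀ y, y ∈ X z → y ∈ X (t * z * t⁻¹) → y = 1 := by
    intro y hy1 hy2
    by_contra hy
    apply htH
    have h1 := C.np.eq_of_mem hz1 (cj_ne (h := t) hz1) hy hy1 hy2
    rw [C.memH]
    intro x hx
    have := C.np.conj t hz1 hx
    rwa [← h1] at this
  have heX : e ∈ X (t * z * t⁻¹) := by
    have := C.np.conj t hz1 hd
    rwa [show t * d * t⁻¹ = e by rw [hti]] at this
  have hdn : ∀ x ∈ X (t * z * t⁻¹), d * x * d⁻¹ ∈ X (t * z * t⁻¹) := by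
    intro x hx
    have h1 : t * x * t⁻¹ ∈ X z := by
      have := C.np.conj t (cj_ne (h := t) hz1) hx
      have e1 : t * (t * z * t⁻¹) * t⁻¹ = z := by
        rw [hti]
        calc t * (t * z * t) * t = (t * t) * z * (t * t) := by group
          _ = z := by rw [htt]; group
      rwa [e1] at this
    have h2 := C.memH.1 htd _ h1
    have h3 := C.np.conj t hz1 h2
    have e2 : t * (e * (t * x * t⁻¹) * e⁻¹) * t⁻¹ = d * x * d⁻¹ := by
      rw [he, mul_inv_rev, mul_inv_rev, hti]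
      calc t * (t * d * t * (t * x * t) * (t * (d⁻¹ * t))) * t
          = (t * t) * d * (t * t) * x * (t * t) * d⁻¹ * (t * t) := by group
        _ = d * x * d⁻¹ := by rw [htt]; group
    rwa [e2] at h3
  have hcom : d * e * d⁻¹ * e⁻¹ = 1 := by
    apply hdis
    · have h1 := C.memH.1 htd d⁻¹ (inv_mem hd)
      have := mul_mem hd h1
      have e1 : d * (e * d⁻¹ * e⁻¹) = d * e * d⁻¹ * e⁻¹ := by group
      rwa [e1] at this
    · exact mul_mem (hdn e heX) (inv_mem heX)
  have hde : d * e = e * d := by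
    calc d * e = (d * e * d⁻¹ * e⁻¹) * (e * d) := by group
      _ = e * d := by rw [hcom, one_mul]
  have hte : t * e * t = d := by
    rw [he]
    calc t * (t * d * t) * t = (t * t) * d * (t * t) := by group
      _ = d := by rw [htt]; group
  have hwt : (d * e) * t = t * (d * e) := by
    calc (d * e) * t = (t * t) * d * (t * t) * e * t := by rw [htt]; group
      _ = t * (t * d * t) * (t * e * t) := by group
      _ = t * (e * d) := by rw [← he, hte]; group
      _ = t * (d * e) := by rw [hde]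
  have h1 : d * e ∈ X t := C.hC t ht _ hwt
  have heo : Odd (orderOf e) := by
    have h2 := C.se.2.2 t htH
    have h3 : e ∈ Subgroup.normalizer (X z : Set G) ⊓
        (Subgroup.normalizer (X z : Set G)).map (MulAut.conj t).toMonoidHom := by
      rw [Subgroup.mem_inf, H21.mem_map_conj]
      refine ⟨htd, ?_⟩
      rw [hti, hte]
      exact C.X_le hd
    have h4 := orderOf_dvd_natCard (⟨e, h3⟩ : ↥(Subgroup.normalizer (X z : Set G) ⊓
        (Subgroup.normalizer (X z : Set G)).map (MulAut.conj t).toMonoidHom))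
    rw [Subgroup.orderOf_mk] at h4
    exact h2.of_dvd_nat h4
  by_cases hw1 : d * e = 1
  · -- `t` inverts `d`
    have h2 : e = d⁻¹ := eq_inv_of_mul_eq_one_right hw1
    have h3 : e = 1 := hdis e (by rw [h2]; exact inv_mem hd) heX
    apply hd1
    rw [← hte, h3, mul_one, htt]
  · have ht1 := ne_one_of_two ht
    have hdX : ∀ x ∈ X t, d * x * d⁻¹ ∈ X t := by
      intro x hx
      exact C.np.norm_of_comm ht1 h1 hw1 (by rw [← mul_assoc, mul_assoc, mul_assoc, hde]) hx
    have h2 : e * d⁻¹ ∈ X t := by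
      have h3 := mul_mem (C.np.mem t) (hdX t (C.np.mem t))
      have e1 : t * (d * t * d⁻¹) = e * d⁻¹ := by rw [he]; group
      rwa [e1] at h3
    have h3 : e * e ∈ X t := by
      have h4 := mul_mem h1 h2
      have e1 : d * e * (e * d⁻¹) = e * e := by
        calc d * e * (e * d⁻¹) = (d * e) * e * d⁻¹ := by group
          _ = (e * d) * e * d⁻¹ := by rw [hde]
          _ = e * (d * e) * d⁻¹ := by group
          _ = e * (e * d) * d⁻¹ := by rw [hde]
          _ = e * e := by group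
      rwa [e1] at h4
    have h4 : e * e ≠ 1 := by
      intro h5
      have h6 : orderOf e ∣ 2 := orderOf_dvd_of_pow_eq_one (by rw [pow_two, h5])
      rcases (Nat.dvd_prime Nat.prime_two).1 h6 with h7 | h7
      · rw [orderOf_eq_one_iff] at h7
        apply hd1
        rw [← hte, h7, mul_one, htt]
      · rw [h7] at heo
        exact absurd heo (by decide)
    have h5 := C.np.eq_of_mem ht1 (cj_ne (h := t) hz1) h4 h3 (mul_mem heX heX)
    have h6 : t ∈ X (t * z * t⁻¹) := h5 ▸ C.np.mem t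
    have h7 := C.np.conj t (cj_ne (h := t) hz1) h6
    have e1 : t * (t * z * t⁻¹) * t⁻¹ = z := by
      rw [hti]
      calc t * (t * z * t) * t = (t * t) * z * (t * t) := by group
        _ = z := by rw [htt]; group
    rw [e1, mul_inv_cancel_right] at h7
    exact htH (C.X_le h7)

/-- regularity -/
theorem hreg {g : G} (hg : g ∉ Subgroup.normalizer (X z : Set G)) {u : G} (hu : u ∈ X z)
    (hug : g⁻¹ * (u * g) ∈ Subgroup.normalizer (X z : Set G)) : u = 1 := by
  have hse := C.se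
  set H := Subgroup.normalizer (X z : Set G) with hH
  have hxy : (QuotientGroup.mk 1 : G ⧸ H) ≠ QuotientGroup.mk g := StrEmb.mk_one_ne_mk hg
  have hzH : z ∈ H := C.X_le (C.np.mem z)
  have h1 : z • (QuotientGroup.mk 1 : G ⧸ H) = QuotientGroup.mk 1 := by
    rw [StrEmb.smul_mk_eq_iff]; simpa using hzH
  have h3 : (g * z * g⁻¹) • (QuotientGroup.mk g : G ⧸ H) = QuotientGroup.mk g := by
    rw [StrEmb.smul_mk_eq_iff]; simpa [mul_assoc] using hzH
  obtain ⟨w, -, hw, -, hwx⟩ := StrEmb.exists_swap hse C.hz (by rw [StrEmb.orderOf_conj, C.hz]) h1 h3 hxy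
  have hwg : w⁻¹ * g ∈ H := by
    rw [StrEmb.smul_mk_eq_mk_iff] at hwx
    simpa using hwx
  have hwH : w ∉ H := by
    intro hc
    apply hg
    have := mul_mem hc hwg
    simpa using this
  apply C.key3 hw hwH hu
  have h4 : (w⁻¹ * g) * (g⁻¹ * (u * g)) * (w⁻¹ * g)⁻¹ ∈ H := mul_mem (mul_mem hwg hug) (inv_mem hwg)
  have e : (w⁻¹ * g) * (g⁻¹ * (u * g)) * (w⁻¹ * g)⁻¹ = w⁻¹ * u * w := by group
  rw [e, inv_eq_of_mul_eq_one_left (mul_self_of_two hw)] at h4
  exact h4

theorem odd_normal {N : Subgroup G} (hN : N.Normal) (ho : Odd (Nat.card N)) : N = ⊥ :=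
  C.ns N hN (Cfsg.Agent.FT.solvable_of_odd ho)

theorem core_bot : Cfsg.pPrimeCore 2 G = ⊥ := by
  rw [Cfsg.pPrimeCore, eq_bot_iff]
  apply sSup_le
  rintro N ⟨hN, hc⟩
  rw [C.odd_normal hN (Nat.coprime_two_right.1 hc)]

theorem htrans (g₁ g₂ : G) (hg1 : g₁ ∉ Subgroup.normalizer (X z : Set G))
    (hg2 : g₂ ∉ Subgroup.normalizer (X z : Set G)) :
    ∃ u ∈ X z, g₂⁻¹ * (u * g₁) ∈ Subgroup.normalizer (X z : Set G) := by
  have hse := C.se
  rcases Cfsg.Agent.H68.BS4.dichotomy hse with h1 | ⟨-, h1⟩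
  · obtain ⟨k, hk, hk2⟩ := h1 g₁ g₂ hg1 hg2
    have hzH : z ∈ Subgroup.normalizer (X z : Set G) := C.X_le (C.np.mem z)
    have hkz : k * z * k⁻¹ ∈ Subgroup.normalizer (X z : Set G) := mul_mem (mul_mem hk hzH) (inv_mem hk)
    obtain ⟨d, hd, hdz⟩ := StrEmb.exists_conj_inf hse hg1 C.hz hzH (by rw [StrEmb.orderOf_conj, C.hz]) hkz
    rw [Subgroup.mem_inf, H21.mem_map_conj] at hd
    -- `k d⁻¹ ∈ X z`
    have h2 : d⁻¹ * k ∈ X z := by
      apply C.hC z C.hz
      have h3 : (d⁻¹ * k) * z * (d⁻¹ * k)⁻¹ = z := by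
        calc (d⁻¹ * k) * z * (d⁻¹ * k)⁻¹ = d⁻¹ * (k * z * k⁻¹) * d := by group
          _ = z := by rw [← hdz]; group
      calc d⁻¹ * k * z = (d⁻¹ * k) * z * (d⁻¹ * k)⁻¹ * (d⁻¹ * k) := by group
        _ = z * (d⁻¹ * k) := by rw [h3]
    refine ⟨k * d⁻¹, ?_, ?_⟩
    · have := C.memH.1 hd.1 _ h2
      have e : d * (d⁻¹ * k) * d⁻¹ = k * d⁻¹ := by group
      rwa [e] at this
    · have h4 := mul_mem hk2 (inv_mem hd.2)
      have e : g₂⁻¹ * (k * g₁) * (g₁⁻¹ * d * g₁)⁻¹ = g₂⁻¹ * (k * d⁻¹ * g₁) := by group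
      rwa [e] at h4
  · rw [C.core_bot, bot_sup_eq] at h1
    exact absurd h1 C.H_ne_top

theorem setup : ∃ t : G, IsRankOneSetup G (G ⧸ Subgroup.normalizer (X z : Set G)) (QuotientGroup.mk 1) t (X z) := by
  apply RK.setup_of_stronglyEmbedded _ C.se (X z) C.X_le
  · exact Subgroup.normal_in_normalizer
  · exact C.htrans
  · intro g hg u hu hug
    exact C.hreg hg hu hug

end C1

end Cfsg.Agent.Ptn
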