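import Mathlib
import Cfsg.Agent.Ptn.CaseOne
import Cfsg.Agent.RK.Final
import Cfsg.Agent.RK.Simple
import Cfsg.Agent.S0280

/-!
Groups with a nontrivial partition: conclusion of the case where every involution centralizes only elements of its
component.
-/

set_option autoImplicit false

namespace Cfsg.Agent.Ptn

open Cfsg Cfsg.Agent.H20 Cfsg.Agent.H20.RO

variable {G : Type*} [Group G] {X : G → Subgroup G}

namespace C1

variable [Finite G] {z : G} (C : C1 X z)
include C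

variable {Ω : Type*} [MulAction G Ω] {a : Ω} {t : G} (hS : IsRankOneSetup G Ω a t (X z))
include hS

theorem faithful : FaithfulSMul G Ω := by
  have := Fact.mk Nat.prime_two
  have h1 : (MulAction.toPermHom G Ω).ker = ⊥ := by
    apply C.odd_normal inferInstance
    by_contra hodd
    rw [Nat.not_odd_iff_even] at hodd
    obtain ⟨u, hu⟩ := exists_prime_orderOf_dvd_card' 2 (even_iff_two_dvd.1 hodd)
    have hu2 : orderOf (u : G) = 2 := by rw [Subgroup.orderOf_coe, hu]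
    have hu3 := u.2
    rw [MonoidHom.mem_ker] at hu3
    have hfix : ∀ b : Ω, (u : G) • b = b := by
      intro b
      have h2 := congrArg (fun e : Equiv.Perm Ω => e b) hu3
      simpa using h2
    exact ta_ne hS (fix_unique hS (ne_one_of_two hu2) (mul_self_of_two hu2) (hfix _) (hfix _))
  refine ⟨?_⟩
  intro x y hxy
  have : x * y⁻¹ ∈ (MulAction.toPermHom G Ω).ker := by
    rw [MonoidHom.mem_ker]
    ext ω
    rw [MulAction.toPermHom_apply, MulAction.toPerm_apply, mul_smul, hxy, smul_inv_smul]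
    rfl
  rw [h1, Subgroup.mem_bot] at this
  exact mul_inv_eq_one.1 this

theorem exists_comm : ∃ x y : G, x ≠ 1 ∧ y ≠ 1 ∧ x ≠ y ∧ x * x = 1 ∧ y * y = 1 ∧ x * y = y * x := by
  by_contra hcon
  push Not at hcon
  have hno : ∀ x y : G, x ≠ 1 → y ≠ 1 → x * x = 1 → y * y = 1 → x * y = y * x → x = y := by
    intro x y hx hy hxx hyy hxy
    by_contra hne
    exact hcon x y hx hy hne hxx hyy hxy
  obtain ⟨N, hN, hodd, hc⟩ := RK.central_mod_odd hno hS.ne_one hS.mul_self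
  have hNb := C.odd_normal hN hodd
  have htc : ∀ g : G, g * t * g⁻¹ = t := by
    intro g
    have := hc g
    rw [hNb, Subgroup.mem_bot] at this
    calc g * t * g⁻¹ = (t * g * t⁻¹ * g⁻¹)⁻¹ * t := by group
      _ = t := by rw [this]; group
  have h1 : (Subgroup.zpowers t).Normal := by
    refine ⟨?_⟩
    intro x hx g
    obtain ⟨n, rfl⟩ := Subgroup.mem_zpowers_iff.1 hx
    rw [← conj_zpow, htc]
    exact hx
  have h2 := C.ns _ h1 inferInstance
  rw [Subgroup.zpowers_eq_bot] at h2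
  exact hS.ne_one h2

/-- `t` centralizes no element of `D` -/
theorem fpf (hp : IsPGroup 2 (X z)) {d : G} (hd : d ∈ DD G a t) (hdt : d * t = t * d) : d = 1 := by
  have ht2 : orderOf t = 2 := two_of_mul_self hS.mul_self hS.ne_one
  have h1 := C.hC t ht2 d hdt
  obtain ⟨g, hg⟩ := conj_all hS hS.ne_one hS.mul_self C.z1 (mul_self_of_two C.hz)
  have h2 := C.np.conj g hS.ne_one h1
  rw [hg] at h2
  obtain ⟨k, hk⟩ := hp ⟨_, h2⟩
  have hk' : (g * d * g⁻¹) ^ 2 ^ k = 1 := by simpa using congrArg Subtype.val hk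
  have h3 : d ^ 2 ^ k = 1 := by
    rw [conj_pow] at hk'
    calc d ^ 2 ^ k = g⁻¹ * (g * d ^ 2 ^ k * g⁻¹) * g := by group
      _ = 1 := by rw [hk']; group
  have h4 := orderOf_dvd_of_pow_eq_one h3
  have h5 := D_odd hS hd
  have h6 : Nat.Coprime (orderOf d) (2 ^ k) := Nat.Coprime.pow_right k (Nat.coprime_two_right.2 h5)
  exact orderOf_eq_one_iff.1 (Nat.eq_one_of_dvd_coprimes h6 dvd_rfl h4)

theorem D_comm (hp : IsPGroup 2 (X z)) {d : G} (hd : d ∈ DD G a t) : ∃ e ∈ DD G a t, d = e * t * e⁻¹ * t := by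
  have hti := tinv hS
  have hf : ∀ e : DD G a t, (e : G) * t * (e : G)⁻¹ * t ∈ DD G a t := by
    intro e
    have h1 := t_conj_D hS (inv_mem e.2)
    have h2 := mul_mem e.2 h1
    rw [hti] at h2
    have : (e : G) * (t * (e : G)⁻¹ * t) = e * t * (e : G)⁻¹ * t := by group
    rwa [this] at h2
  let f : DD G a t → DD G a t := fun e => ⟨_, hf e⟩
  have hinj : Function.Injective f := by
    intro e e' hee
    have h1 : (e : G) * t * (e : G)⁻¹ * t = e' * t * (e' : G)⁻¹ * t := congrArg Subtype.val hee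
    have h2 : (e : G) * t * (e : G)⁻¹ = e' * t * (e' : G)⁻¹ := mul_right_cancel h1
    have h3 : (e' : G)⁻¹ * e = 1 := by
      apply C.fpf hS hp (mul_mem (inv_mem e'.2) e.2)
      calc (e' : G)⁻¹ * e * t = (e' : G)⁻¹ * ((e : G) * t * (e : G)⁻¹) * e := by group
        _ = t * ((e' : G)⁻¹ * e) := by rw [h2]; group
    exact Subtype.ext (inv_mul_eq_one.1 h3).symm
  obtain ⟨e, he⟩ := (Finite.surjective_of_injective hinj) ⟨d, hd⟩
  exact ⟨e, e.2, (congrArg Subtype.val he).symm⟩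

theorem eq_top (hp : IsPGroup 2 (X z)) {L : Subgroup G} (hL : L.Normal) (hodd : Odd L.index) : L = ⊤ := by
  have h2 : ∀ g : G, ∀ k : ℕ, g ^ 2 ^ k = 1 → g ∈ L := by
    intro g k hk
    have h3 : orderOf (QuotientGroup.mk' L g) ∣ 2 ^ k := by
      apply orderOf_dvd_of_pow_eq_one
      rw [← map_pow, hk, map_one]
    have h4 : orderOf (QuotientGroup.mk' L g) ∣ L.index := by
      rw [Subgroup.index]
      exact orderOf_dvd_natCard _
    have h6 : Nat.Coprime L.index (2 ^ k) := Nat.Coprime.pow_right k (Nat.coprime_two_right.2 hodd)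
    have h7 := orderOf_eq_one_iff.1 (Nat.eq_one_of_dvd_coprimes h6 h4 h3)
    exact (QuotientGroup.eq_one_iff g).1 h7
  have hQ : X z ≤ L := by
    intro x hx
    obtain ⟨k, hk⟩ := hp ⟨x, hx⟩
    exact h2 x k (by simpa using congrArg Subtype.val hk)
  have ht : t ∈ L := h2 t 1 (by rw [pow_one, pow_two, hS.mul_self])
  have hD : ∀ d ∈ DD G a t, d ∈ L := by
    intro d hd
    obtain ⟨e, -, rfl⟩ := C.D_comm hS hp hd
    exact mul_mem (hL.conj_mem t ht e) ht
  have hH : ∀ g : G, g • a = a → g ∈ L := by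
    intro g hg
    obtain ⟨q, hq, d, hd, rfl⟩ := exists_mul hS hg
    exact mul_mem (hQ hq) (hD d hd)
  rw [Subgroup.eq_top_iff']
  intro g
  by_cases hg : g • a = a
  · exact hH g hg
  · obtain ⟨q, hq, hqa⟩ := exists_q hS hg
    have h3 := hH ((q * t)⁻¹ * g) (by rw [mul_smul, ← hqa, ← mul_smul q t, inv_smul_smul])
    have h4 := mul_mem (mul_mem (hQ hq) ht) h3
    have e : q * t * ((q * t)⁻¹ * g) = g := by group
    rwa [e] at h4

end C1

theorem num_aux {e n N d : ℕ} {q : ℕ} (hq : q = 2 ^ n) (hn : 2 ≤ n) (he : ∃ i, e ^ 3 = 2 ^ i) (hd : d = Nat.gcd 3 (q + 1))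
    (h1 : d * ((q + 1) * N) = q ^ 3 * ((q + 1) * (q ^ 2 - 1) * (q ^ 3 + 1)))
    (h2 : N = e ^ 3 * (e - 1) * (e ^ 3 + 1)) (he1 : 1 < e) : False := by
  have hq4 : 4 ≤ q := by
    rw [hq]
    calc 4 = 2 ^ 2 := rfl
      _ ≤ 2 ^ n := Nat.pow_le_pow_right (by norm_num) hn
  have heven : Even q := by rw [hq]; exact Nat.even_pow.2 ⟨even_two, by omega⟩
  obtain ⟨i, hi⟩ := he
  have hi0 : i ≠ 0 := by
    rintro rfl
    have : 1 < e ^ 3 := Nat.one_lt_pow (by norm_num) he1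
    omega
  have he3 : Even (e ^ 3) := by rw [hi]; exact Nat.even_pow.2 ⟨even_two, hi0⟩
  have hee : Even e := by
    by_contra hcon
    exact (Nat.not_even_iff_odd.2 ((Nat.not_even_iff_odd.1 hcon).pow)) he3
  have hd3 : d ∣ 3 := by rw [hd]; exact Nat.gcd_dvd_left _ _
  have hdo : Odd d := by
    rcases (Nat.dvd_prime Nat.prime_three).1 hd3 with h | h <;> rw [h] <;> decide
  have ho1 : Odd (d * (q + 1) * (e - 1) * (e ^ 3 + 1)) := by
    refine Odd.mul (Odd.mul (Odd.mul hdo heven.add_one) ?_) he3.add_one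
    obtain ⟨k, hk⟩ := hee
    exact ⟨k - 1, by omega⟩
  have ho2 : Odd ((q + 1) * (q ^ 2 - 1) * (q ^ 3 + 1)) := by
    refine Odd.mul (Odd.mul heven.add_one ?_) ((Nat.even_pow.2 ⟨heven, by norm_num⟩).add_one)
    obtain ⟨k, hk⟩ := (Nat.even_pow.2 ⟨heven, by norm_num⟩ : Even (q ^ 2))
    have : 0 < q ^ 2 := by positivity
    exact ⟨k - 1, by omega⟩
  have h3 : e ^ 3 * (d * (q + 1) * (e - 1) * (e ^ 3 + 1)) = q ^ 3 * ((q + 1) * (q ^ 2 - 1) * (q ^ 3 + 1)) := by
    rw [← h1, h2]; ring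
  have hcop : ∀ m j : ℕ, Odd m → Nat.Coprime (2 ^ j) m := fun m j hm =>
    Nat.Coprime.pow_left j (Nat.coprime_two_left.2 hm)
  have hq3 : q ^ 3 = 2 ^ (n * 3) := by rw [hq, ← pow_mul]
  have h4 : e ^ 3 = q ^ 3 := by
    apply Nat.dvd_antisymm
    · have h5 : Nat.Coprime (e ^ 3) ((q + 1) * (q ^ 2 - 1) * (q ^ 3 + 1)) := by rw [hi]; exact hcop _ _ ho2
      exact h5.dvd_of_dvd_mul_right ⟨_, h3.symm⟩
    · have h5 : Nat.Coprime (q ^ 3) (d * (q + 1) * (e - 1) * (e ^ 3 + 1)) := by rw [hq3]; exact hcop _ _ ho1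
      exact h5.dvd_of_dvd_mul_right ⟨_, h3⟩
  have h5 : e = q := Nat.pow_left_injective (n := 3) (by norm_num) h4
  subst h5
  have hpos : 0 < e ^ 3 := by positivity
  have h6 := Nat.eq_of_mul_eq_mul_left hpos h3
  have h7 : e ^ 2 - 1 = (e + 1) * (e - 1) := by
    obtain ⟨k, rfl⟩ : ∃ k, e = k + 1 := ⟨e - 1, by omega⟩
    rw [Nat.add_sub_cancel]
    have : (k + 1) ^ 2 = (k + 1 + 1) * k + 1 := by ring
    omega
  rw [h7] at h6
  have h8 : 0 < (e + 1) * (e - 1) * (e ^ 3 + 1) := by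
    have : 0 < e - 1 := by omega
    positivity
  have h9 : d * ((e + 1) * (e - 1) * (e ^ 3 + 1)) = (e + 1) * ((e + 1) * (e - 1) * (e ^ 3 + 1)) := by
    calc d * ((e + 1) * (e - 1) * (e ^ 3 + 1)) = d * (e + 1) * (e - 1) * (e ^ 3 + 1) := by ring
      _ = _ := by rw [h6]; ring
  have h10 := Nat.eq_of_mul_eq_mul_right h8 h9
  have := Nat.le_of_dvd (by norm_num) hd3
  omega

theorem C1.main [Finite G] {z : G} (C : C1 X z) :
    (∃ (F : Type) (_ : Field F) (_ : Fintype F), 4 ≤ Fintype.card F ∧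
      Nonempty (G ≃* Matrix.ProjectiveSpecialLinearGroup (Fin 2) F)) ∨ Cfsg.Lie.IsoSuzuki G := by
  obtain ⟨t, hS⟩ := C.setup
  have hfaith := C.faithful hS
  have h2 := C.exists_comm hS
  obtain ⟨C', hRS⟩ := RK.exists_RS hS h2 (Cfsg.Agent.H38.OddTrans.inverted_cyclic hS h2
      (Cfsg.Agent.FT.solvable_of_odd hS.odd_card))
  let e : (⊤ : Subgroup G) ≃* G := Subgroup.topEquiv
  rcases hRS.trichotomy with hel | ⟨hp, hna, hcard⟩ | ⟨hp, hna, hcard, j, hj, hj1, hj2, hj3⟩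
  · obtain ⟨L, hL, hodd, F, i1, i2, ⟨n, hn, hc⟩, -, ⟨f⟩⟩ :=
      Cfsg.Agent.H37.RankOne.psl_of_elementary hS h2 hRS.hC hRS.cyc hRS.nrm hel
    have hp : IsPGroup 2 (X z) := fun x => ⟨1, by
      rw [pow_one, pow_two]; exact Subtype.ext (hel x x.2)⟩
    have hLt := C.eq_top hS hp hL hodd
    subst hLt
    refine Or.inl ⟨F, i1, i2, ?_, ⟨e.symm.trans f⟩⟩
    rw [hc]
    calc 4 = 2 ^ 2 := rfl
      _ ≤ 2 ^ n := Nat.pow_le_pow_right (by norm_num) hn
  · obtain ⟨L, hL, hodd, F, i1, i2, m, hm, hc, ⟨f⟩⟩ :=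
      Cfsg.Agent.SuzId.iso_of_order_sq hS h2 hRS.hC hRS.cyc hRS.nrm hp hna hcard
    have hLt := C.eq_top hS hp hL hodd
    subst hLt
    exact Or.inr ⟨F, i1, i2, m, hm, hc, ⟨e.symm.trans f⟩⟩
  · exfalso
    obtain ⟨L, hL, hodd, F, i1, i2, n, hn, hc, ⟨f⟩⟩ :=
      Cfsg.Agent.PSU3Id.iso_of_order_cube hS h2 hRS.hC hRS.cyc hRS.nrm hp hna hcard
        ⟨j, hj, hj1, hj2, hj3⟩
    have hLt := C.eq_top hS hp hL hodd
    subst hLt
    have hG : Nat.card G = Nat.card (Cfsg.PSU 3 F (2 ^ n)) := Nat.card_congr (e.symm.trans f).toEquiv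
    have h3 := card_G hS
    have hDC : Nat.card (DD G (QuotientGroup.mk 1 : G ⧸ Subgroup.normalizer (X z : Set G)) t) = Nat.card C' := by
      congr 1
      have : DD G (QuotientGroup.mk 1 : G ⧸ Subgroup.normalizer (X z : Set G)) t = C' := by
        apply le_antisymm
        · intro d hd
          rw [hRS.memC]
          refine ⟨hd, ?_⟩
          obtain ⟨e', -, rfl⟩ := C.D_comm hS hp hd
          have hti := tinv hS
          rw [hti, mul_inv_rev, mul_inv_rev, mul_inv_rev, inv_inv, hti]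
          calc t * (e' * t * e'⁻¹ * t) * t = t * e' * t * e'⁻¹ * (t * t) := by group
            _ = t * (e' * (t * e'⁻¹)) := by rw [hS.mul_self]; group
        · intro d hd
          exact hRS.C_D hd
      rw [this]
    obtain ⟨s₀, r₀, hst⟩ := hRS.exists_ST
    have h4 : Nat.card hRS.E = Nat.card C' + 1 := hst.card_E_eq
    rw [hRS.card_E_sub] at h4
    rw [hDC, hcard] at h3
    generalize Nat.card {x : X z // x * x = 1} = E at h3 h4 hcard
    have h1 := Cfsg.Agent.S0280.result (F := F) hc 3 (by norm_num)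
    simp only [Finset.prod_range_succ, Finset.prod_range_zero, one_mul] at h1
    norm_num at h1
    have hC'1 : 1 < E := by
      have : 0 < Nat.card C' := Nat.card_pos
      omega
    refine num_aux (q := 2 ^ n) rfl hn ?_ rfl h1 ?_ hC'1 (e := E)
    · obtain ⟨i, hi⟩ := hp.exists_card_eq
      exact ⟨i, by rw [← hcard, hi]⟩
    · rw [← hG, h3, h4, Nat.add_sub_cancel]

end Cfsg.Agent.Ptn
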