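import Mathlib
import Cfsg.Agent.Ptn.CaseTwo
import Cfsg.Agent.S3730

/-!
Groups with a nontrivial partition: the case where every involution commutes with an element outside its component.
-/

set_option autoImplicit false

open scoped Pointwise

namespace Cfsg.Agent.Ptn

variable {G : Type*} [Group G] {X : G → Subgroup G}

section

variable [Finite G] (h : NP X) (hnil : ∀ g : G, g ≠ 1 → Group.IsNilpotent (X g))
include h

theorem norm_sub (hout : ∀ t : G, orderOf t = 2 → ∃ c, c * t = t * c ∧ c ∉ X t)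
    (hnil : ∀ g : G, g ≠ 1 → Group.IsNilpotent (X g)) {a : G} (ha : 2 ∣ orderOf a) (ha1 : a ≠ 1) (ha2 : a * a ≠ 1)
    {W : Subgroup G} (hW : W ≤ X a) (hW1 : W ≠ ⊥) :
    Subgroup.normalizer (W : Set G) = Subgroup.normalizer (X a : Set G) := by
  obtain ⟨h1, h2⟩ := struct_two h hout hnil ha ha1 ha2
  apply le_antisymm
  · intro m hm
    rw [NP.mem_normalizer]
    intro x hx
    obtain ⟨y, hy, hy1⟩ := (Subgroup.bot_or_exists_ne_one W).resolve_left hW1
    exact h.norm_of ha1 (hW hy) hy1 (hW ((Subgroup.mem_normalizer_iff.1 hm y).1 hy)) hx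
  · intro m hm
    have key : ∀ n ∈ Subgroup.normalizer (X a : Set G), ∀ x ∈ W, n * x * n⁻¹ ∈ W := by
      intro n hn x hx
      rcases h2 n hn with e | e
      · rw [e x (hW hx)]; exact hx
      · rw [e x (hW hx)]; exact inv_mem hx
    rw [Subgroup.mem_normalizer_iff]
    intro x
    refine ⟨key m hm x, fun hx => ?_⟩
    have := key m⁻¹ (inv_mem hm) _ hx
    have e : m⁻¹ * (m * x * m⁻¹) * m⁻¹⁻¹ = x := by group
    rwa [e] at this

theorem caseTwo [Nontrivial G] (hout : ∀ t : G, orderOf t = 2 → ∃ c, c * t = t * c ∧ c ∉ X t)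
    (hnil : ∀ g : G, g ≠ 1 → Group.IsNilpotent (X g))
    (hns : ∀ N : Subgroup G, N.Normal → Group.IsSolvable ↥N → N = ⊥) :
    ∃ (F : Type) (_ : Field F) (_ : Fintype F), 3 < Fintype.card F ∧
      (Nonempty (G ≃* Matrix.ProjectiveSpecialLinearGroup (Fin 2) F) ∨
        Nonempty (G ≃* Matrix.ProjGenLinGroup (Fin 2) F)) := by
  apply Cfsg.Agent.S3730.result hns
  intro Z hZ hev Y hYZ hY
  obtain ⟨⟨a, haZ⟩, ha⟩ := hZ.exists_generator
  have hZa : Z = Subgroup.zpowers a := by
    apply le_antisymm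
    · intro z hz
      obtain ⟨n, hn⟩ := Subgroup.mem_zpowers_iff.1 (ha ⟨z, hz⟩)
      exact Subgroup.mem_zpowers_iff.2 ⟨n, by simpa using congrArg Subtype.val hn⟩
    · rw [Subgroup.zpowers_le]; exact haZ
  subst hZa
  rw [Nat.card_zpowers] at hev
  have hd := even_iff_two_dvd.1 hev
  have ha1 : a ≠ 1 := by rintro rfl; rw [orderOf_one] at hd; omega
  by_cases ha2 : a * a = 1
  · have h1 := two_of_mul_self ha2 ha1
    have h2 : Y = Subgroup.zpowers a := by
      apply Subgroup.eq_of_le_of_card_ge hYZ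
      have h3 : Nat.card Y ≠ 1 := by rwa [Ne, Subgroup.card_eq_one]
      have h4 : 0 < Nat.card Y := Nat.card_pos
      rw [Nat.card_zpowers, h1]; omega
    rw [h2]
  · have hle : Subgroup.zpowers a ≤ X a := by rw [Subgroup.zpowers_le]; exact h.mem a
    rw [norm_sub h hout hnil hd ha1 ha2 hle (by rwa [Ne, Subgroup.zpowers_eq_bot]),
      norm_sub h hout hnil hd ha1 ha2 (hYZ.trans hle) hY]

/-- if one involution centralizes only elements of its component then so does every involution -/
theorem all_in (hnil : ∀ g : G, g ≠ 1 → Group.IsNilpotent (X g)) {z : G} (hz : orderOf z = 2)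
    (hC : ∀ c, c * z = z * c → c ∈ X z) {t : G} (ht : orderOf t = 2) {c : G} (hc : c * t = t * c) : c ∈ X t := by
  classical
  by_contra hcX
  have := Fact.mk Nat.prime_two
  have hcc := h.ord2 ht hc hcX
  have hc1 : c ≠ 1 := by rintro rfl; exact hcX (one_mem _)
  have hc2 := two_of_mul_self hcc hc1
  have pz : ∀ x : G, orderOf x = 2 → IsPGroup 2 (Subgroup.zpowers x) := by
    intro x hx
    apply IsPGroup.of_card (n := 1)
    rw [Nat.card_zpowers, hx, pow_one]
  -- the Sylow subgroup of `z` lies in `X z`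
  obtain ⟨T, hT⟩ := (pz z hz).exists_le_sylow
  have hzT : z ∈ T := hT (Subgroup.mem_zpowers z)
  have hTX : (T : Subgroup G) ≤ X z := by
    have hnt : Nontrivial T := by
      refine ⟨⟨z, hzT⟩, 1, ?_⟩
      intro e
      exact ne_one_of_two hz (congrArg Subtype.val e)
    have hcn : Nontrivial (Subgroup.center T) := T.isPGroup'.center_nontrivial
    have hcp : IsPGroup 2 (Subgroup.center T) := T.isPGroup'.to_subgroup _
    have hdvd : 2 ∣ Nat.card (Subgroup.center T) := by
      obtain ⟨n, hn⟩ := hcp.exists_card_eq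
      rw [hn]
      have : n ≠ 0 := by
        rintro rfl
        rw [pow_zero] at hn
        have := Finite.one_lt_card_iff_nontrivial.2 hcn
        omega
      exact dvd_pow_self 2 this
    obtain ⟨w, hw⟩ := exists_prime_orderOf_dvd_card' 2 hdvd
    have hw2 : orderOf ((w : T) : G) = 2 := by
      rw [Subgroup.orderOf_coe, Subgroup.orderOf_coe, hw]
    have hwc : ∀ x ∈ T, x * ((w : T) : G) = ((w : T) : G) * x := by
      intro x hx
      exact congrArg Subtype.val ((Subgroup.mem_center_iff.1 w.2) ⟨x, hx⟩)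
    have hw1 := ne_one_of_two hw2
    generalize ((w : T) : G) = w at hw2 hwc hw1
    have hwX : w ∈ X z := hC w (hwc z hzT).symm
    have hXw : X w = X z := h.eq (ne_one_of_two hz) hwX hw1
    intro g hg
    by_contra hgX
    have h1 := h.inv_of hw2 (hwc g hg) (by rwa [hXw]) (hXw ▸ h.mem z) (hwc z hzT)
    apply hgX
    apply hC
    rw [inv_eq_of_mul_eq_one_left (mul_self_of_two hz)] at h1
    calc g * z = g * z * g⁻¹ * g := by group
      _ = z * g := by rw [h1]
  have hV : IsPGroup 2 (Subgroup.zpowers c ⊔ Subgroup.zpowers t : Subgroup G) := by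
    apply (pz c hc2).to_sup_of_normal_right' (pz t ht)
    rw [Subgroup.zpowers_le]
    rw [Subgroup.mem_normalizer_iff]
    have e1 : c * t * c⁻¹ = t := by rw [hc]; group
    intro x
    constructor
    · intro hx
      obtain ⟨n, rfl⟩ := Subgroup.mem_zpowers_iff.1 hx
      rw [← conj_zpow, e1]; exact hx
    · intro hx
      obtain ⟨n, hn⟩ := Subgroup.mem_zpowers_iff.1 hx
      refine Subgroup.mem_zpowers_iff.2 ⟨n, ?_⟩
      have e2 : c⁻¹ * t * c = t := by
        calc c⁻¹ * t * c = c⁻¹ * (c * t * c⁻¹) * c := by rw [e1]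
          _ = t := by group
      have e3 : x = c⁻¹ * (c * x * c⁻¹) * c := by group
      rw [e3, ← hn]
      have e4 := conj_zpow (a := c⁻¹) (b := t) (i := n)
      rw [inv_inv] at e4
      rw [← e4, e2]
  obtain ⟨T', hT'⟩ := hV.exists_le_sylow
  obtain ⟨g, hg⟩ := MulAction.exists_smul_eq G T T'
  have hmem : ∀ x ∈ T', x ∈ X (g * z * g⁻¹) := by
    intro x hx
    rw [← hg] at hx
    have hx' : x ∈ MulAut.conj g • (T : Subgroup G) := hx
    rw [Subgroup.mem_smul_pointwise_iff_exists] at hx'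
    obtain ⟨y, hy, rfl⟩ := hx'
    exact h.conj g (ne_one_of_two hz) (hTX hy)
  have h1 := hmem t (hT' (Subgroup.mem_sup_right (Subgroup.mem_zpowers t)))
  have h2 := hmem c (hT' (Subgroup.mem_sup_left (Subgroup.mem_zpowers c)))
  apply hcX
  rw [h.eq (cj_ne (ne_one_of_two hz)) h1 (ne_one_of_two ht)]
  exact h2

end

end Cfsg.Agent.Ptn
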