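import Cfsg.Agent.Ptn.Split
import Cfsg.Agent.FT.Base
import Cfsg.Agent.Frob.Basic
import Cfsg.Agent.H30.Solv
import Cfsg.Agent.H67.SZ

set_option autoImplicit false

namespace Cfsg.Agent.Ptn

open Finset in
/-- averaging over a group admitting a fixed point free automorphism -/
theorem phi {Γ W : Type*} [Group Γ] [CommGroup W] (φ : Γ →* MulAut W) (E : Subgroup Γ) [Finite E] (g : Γ) (r : ℕ)
    (hr : 0 < r) (hnorm : ∀ e ∈ E, g * e * g⁻¹ ∈ E)
    (hfpf : ∀ i, 0 < i → i < r → ∀ e ∈ E, g ^ i * e * (g ^ i)⁻¹ = e → e = 1)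
    (hN : ∀ e ∈ E, ∀ w : W, ∏ i ∈ range r, φ ((e * g * e⁻¹) ^ i) w = 1)
    (hfix : ∀ w : W, (∀ e ∈ E, φ e w = w) → w = 1) (w : W) : w ^ (Nat.card E) = 1 := by
  classical
  haveI : Fintype E := Fintype.ofFinite E
  have hT : ∀ b : W, ∏ e : E, φ (e : Γ) b = 1 := by
    intro b
    apply hfix
    intro e he
    rw [map_prod]
    have h1 : ∀ x : E, φ e (φ (x : Γ) b) = φ (((⟨e, he⟩ * x : E)) : Γ) b := by
      intro x
      rw [Subgroup.coe_mul, map_mul, MulAut.mul_apply]
    simp only [h1]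
    exact Fintype.prod_equiv (Equiv.mulLeft ⟨e, he⟩) _ _ (fun x => rfl)
  have h0 : ∏ e : E, ∏ i ∈ range r, φ (((e : Γ) * g * (e : Γ)⁻¹) ^ i) w = 1 :=
    Finset.prod_eq_one fun e _ => hN e e.2 w
  rw [Finset.prod_comm] at h0
  have h1 : ∀ i ∈ range r, i ≠ 0 → ∏ e : E, φ (((e : Γ) * g * (e : Γ)⁻¹) ^ i) w = 1 := by
    intro i hi hi0
    have hmem : ∀ e : E, (e : Γ) * (g ^ i * (e : Γ)⁻¹ * (g ^ i)⁻¹) ∈ E := by
      intro e
      have h2 : ∀ j : ℕ, g ^ j * (e : Γ)⁻¹ * (g ^ j)⁻¹ ∈ E := by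
        intro j
        induction j with
        | zero => simp
        | succ j ih =>
          have := hnorm _ ih
          have e1 : g * (g ^ j * (e : Γ)⁻¹ * (g ^ j)⁻¹) * g⁻¹ = g ^ (j + 1) * (e : Γ)⁻¹ * (g ^ (j + 1))⁻¹ := by
            rw [pow_succ']; group
          rwa [e1] at this
      exact E.mul_mem e.2 (h2 i)
    let f : E → E := fun e => ⟨_, hmem e⟩
    have hfinj : Function.Injective f := by
      intro a b hab
      have h2 : (a : Γ) * (g ^ i * (a : Γ)⁻¹ * (g ^ i)⁻¹) = (b : Γ) * (g ^ i * (b : Γ)⁻¹ * (g ^ i)⁻¹) :=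
        congrArg Subtype.val hab
      have h3 : g ^ i * ((b : Γ)⁻¹ * a) * (g ^ i)⁻¹ = (b : Γ)⁻¹ * a := by
        generalize g ^ i = u at h2
        calc u * ((b : Γ)⁻¹ * a) * u⁻¹ = (b : Γ)⁻¹ * ((b : Γ) * (u * (b : Γ)⁻¹ * u⁻¹)) * (u * a * u⁻¹) := by group
          _ = (b : Γ)⁻¹ * ((a : Γ) * (u * (a : Γ)⁻¹ * u⁻¹)) * (u * a * u⁻¹) := by rw [h2]
          _ = (b : Γ)⁻¹ * a := by group
      have h4 := hfpf i (Nat.pos_of_ne_zero hi0) (mem_range.1 hi) _ (E.mul_mem (E.inv_mem b.2) a.2) h3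
      apply Subtype.ext
      have : (a : Γ) = b * ((b : Γ)⁻¹ * a) := by group
      rw [this, h4, mul_one]
    have hfbij : Function.Bijective f := Finite.injective_iff_bijective.1 hfinj
    have h2 : ∀ e : E, φ (((e : Γ) * g * (e : Γ)⁻¹) ^ i) w = φ (f e : Γ) (φ (g ^ i) w) := by
      intro e
      rw [← MulAut.mul_apply, ← map_mul, conj_pow]
      congr 2
      show _ = (e : Γ) * (g ^ i * (e : Γ)⁻¹ * (g ^ i)⁻¹) * g ^ i
      group
    simp only [h2]
    rw [← hT (φ (g ^ i) w)]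
    exact Fintype.prod_bijective f hfbij _ _ (fun e => rfl)
  rw [Finset.prod_eq_single_of_mem 0 (mem_range.2 hr) h1] at h0
  simpa using h0

variable {G : Type*} [Group G]

/-- the same inside a group -/
theorem phiG [Finite G] {W Z E : Subgroup G} (hWn : W.Normal) (hZn : Z.Normal) (hWc : ∀ a ∈ W, ∀ b ∈ W, a * b = b * a)
    (hZW : ∀ z ∈ Z, ∀ w ∈ W, z * w = w * z) {g : G} {r : ℕ} (hr : 0 < r) (hgE : ∀ e ∈ E, g * e * g⁻¹ ∈ E)
    (hfpf : ∀ i, 0 < i → i < r → ∀ e ∈ E, g ^ i * e * (g ^ i)⁻¹ * e⁻¹ ∈ Z → e ∈ Z)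
    (hN : ∀ e ∈ E, ∀ w ∈ W, PP (e * g * e⁻¹) w r = 1)
    (hfix : ∀ w ∈ W, (∀ e ∈ E, e * w = w * e) → w = 1) :
    ∀ w ∈ W, w ^ (Nat.card (E.map (QuotientGroup.mk' Z))) = 1 := by
  classical
  letI : CommGroup W := { (inferInstance : Group W) with mul_comm := fun a b => Subtype.ext (hWc a a.2 b b.2) }
  let ψ : G →* MulAut W := MulAut.conjNormal
  have hψ : ∀ (x : G) (w : W), ((ψ x w : W) : G) = x * w * x⁻¹ := fun x w => rfl
  have hker : ∀ z ∈ Z, ψ z = 1 := by
    intro z hz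
    ext w
    rw [hψ, hZW z hz w w.2]; simp
  let φ : G ⧸ Z →* MulAut W := QuotientGroup.lift Z ψ hker
  have hφ : ∀ (x : G) (w : W), ((φ (QuotientGroup.mk' Z x) w : W) : G) = x * w * x⁻¹ := fun x w => rfl
  intro w hw
  have key := phi φ (E.map (QuotientGroup.mk' Z)) (QuotientGroup.mk' Z g) r hr ?_ ?_ ?_ ?_ ⟨w, hw⟩
  · have := congrArg Subtype.val key
    simpa using this
  · rintro _ ⟨e, he, rfl⟩
    exact ⟨g * e * g⁻¹, hgE e he, by simp⟩
  · rintro i hi0 hir _ ⟨e, he, rfl⟩ h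
    have h1 : g ^ i * e * (g ^ i)⁻¹ * e⁻¹ ∈ Z := by
      rw [← QuotientGroup.eq_one_iff, ← QuotientGroup.mk'_apply, map_mul, map_inv]
      have : (QuotientGroup.mk' Z) (g ^ i * e * (g ^ i)⁻¹) =
          (QuotientGroup.mk' Z) g ^ i * (QuotientGroup.mk' Z) e * ((QuotientGroup.mk' Z) g ^ i)⁻¹ := by simp
      rw [this, h, mul_inv_cancel]
    have h2 := hfpf i hi0 hir e he h1
    rw [QuotientGroup.mk'_apply, QuotientGroup.eq_one_iff]
    exact h2
  · rintro _ ⟨e, he, rfl⟩ v
    apply Subtype.ext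
    have h1 : ∀ n : ℕ, ((∏ i ∈ Finset.range n, φ ((QuotientGroup.mk' Z e * QuotientGroup.mk' Z g * (QuotientGroup.mk' Z e)⁻¹) ^ i) v : W) : G)
        = PP (e * g * e⁻¹) v n := by
      intro n
      induction n with
      | zero => simp [PP]
      | succ n ih =>
        rw [Finset.prod_range_succ, PP, Subgroup.coe_mul, ih]
        congr 1
    rw [h1 r]
    exact hN e he v v.2
  · intro v hv
    apply Subtype.ext
    refine hfix v v.2 ?_
    intro e he
    have h1 := congrArg Subtype.val (hv _ ⟨e, he, rfl⟩)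
    rw [hφ] at h1
    calc e * v = e * v * e⁻¹ * e := by group
      _ = v * e := by rw [h1]

/-- lifting an element of prime order to an element of prime power order -/
theorem lift_q [Finite G] (C : Subgroup G) [C.Normal] {q : ℕ} (hq : q.Prime) {x : G}
    (hx : orderOf (QuotientGroup.mk' C x) = q) :
    ∃ m : ℕ, (∃ j, (x ^ m) ^ q ^ j = 1) ∧ orderOf (QuotientGroup.mk' C (x ^ m)) = q := by
  obtain ⟨a, m, hm, he⟩ := Nat.exists_eq_pow_mul_and_not_dvd (orderOf_pos x).ne' q hq.ne_one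
  refine ⟨m, ⟨a, ?_⟩, ?_⟩
  · rw [← pow_mul, mul_comm, ← he, pow_orderOf_eq_one]
  · rw [map_pow, orderOf_pow, hx, Nat.Coprime.gcd_eq_one ((Nat.Prime.coprime_iff_not_dvd hq).2 hm), Nat.div_one]

theorem exists_lift_q [Finite G] (C : Subgroup G) [C.Normal] {q : ℕ} (hq : q.Prime) (hd : q ∣ Nat.card (G ⧸ C)) :
    ∃ y : G, (∃ j, y ^ q ^ j = 1) ∧ orderOf (QuotientGroup.mk' C y) = q := by
  haveI := Fact.mk hq
  obtain ⟨xb, hxb⟩ := exists_prime_orderOf_dvd_card' q hd
  obtain ⟨x, rfl⟩ := QuotientGroup.mk'_surjective C xb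
  obtain ⟨m, h1, h2⟩ := lift_q C hq hxb
  exact ⟨x ^ m, h1, h2⟩

theorem mk_ne {C : Subgroup G} [C.Normal] {q : ℕ} (hq : q.Prime) {y : G} (h : orderOf (QuotientGroup.mk' C y) = q) :
    y ∉ C := by
  intro hy
  have : QuotientGroup.mk' C y = 1 := (QuotientGroup.eq_one_iff y).2 hy
  rw [this, orderOf_one] at h
  exact hq.ne_one h.symm

/-- a minimal normal elementary abelian subgroup: `G / C_G(W)` has no normal `p`-subgroup -/
theorem eq_of_pgroup [Finite G] {W : Subgroup G} (hW : W.Normal) (hW1 : W ≠ ⊥)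
    (hmin : ∀ N : Subgroup G, N.Normal → N ≤ W → N ≠ ⊥ → N = W) {p : ℕ} (hp : p.Prime) (hWp : ∀ w ∈ W, w ^ p = 1)
    [hCn : (Subgroup.centralizer (W : Set G)).Normal]
    (N : Subgroup (G ⧸ Subgroup.centralizer (W : Set G))) (hN : N.Normal) (hNp : IsPGroup p N) : N = ⊥ := by
  classical
  haveI := Fact.mk hp
  set C := Subgroup.centralizer (W : Set G) with hC
  let ψ : G →* MulAut W := MulAut.conjNormal
  have hker : ∀ z ∈ C, ψ z = 1 := by
    intro z hz
    ext w
    show z * w * z⁻¹ = w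
    have := (Subgroup.mem_centralizer_iff.1 hz) w w.2
    rw [← this]; simp
  let φ : G ⧸ C →* MulAut W := QuotientGroup.lift C ψ hker
  have hφ : ∀ (x : G) (w : W), ((φ (QuotientGroup.mk' C x) w : W) : G) = x * w * x⁻¹ := fun x w => rfl
  letI act : MulAction N W := MulAction.compHom W (φ.comp N.subtype)
  have hsm : ∀ (n : N) (w : W), n • w = φ (n : G ⧸ C) w := fun n w => rfl
  have hWpg : IsPGroup p W := fun w => ⟨1, by rw [pow_one]; exact Subtype.ext (hWp w w.2)⟩
  haveI : Nontrivial W := (Subgroup.nontrivial_iff_ne_bot W).2 hW1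
  have hd : p ∣ Nat.card W := by
    obtain ⟨k, hk⟩ := hWpg.exists_card_eq
    have hk0 : k ≠ 0 := by
      rintro rfl
      have h1 := Finite.one_lt_card (α := W)
      rw [hk, pow_zero] at h1
      exact lt_irrefl _ h1
    rw [hk]; exact dvd_pow_self p hk0
  obtain ⟨b, hb, hb1⟩ := hNp.exists_fixed_point_of_prime_dvd_card_of_fixed_point (α := W) hd (a := 1)
    (by intro n; rw [hsm]; exact map_one _)
  -- the fixed points
  let F : Subgroup G := W ⊓ Subgroup.centralizer ((N.comap (QuotientGroup.mk' C) : Subgroup G) : Set G)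
  haveI : N.Normal := hN
  have hFn : F.Normal := by
    haveI := hW
    haveI : (N.comap (QuotientGroup.mk' C)).Normal := inferInstance
    haveI : (Subgroup.centralizer ((N.comap (QuotientGroup.mk' C) : Subgroup G) : Set G)).Normal := inferInstance
    exact Subgroup.normal_inf_normal _ _
  have hbF : (b : G) ∈ F := by
    refine Subgroup.mem_inf.2 ⟨b.2, ?_⟩
    rw [Subgroup.mem_centralizer_iff]
    intro x hx
    have h1 := hb ⟨QuotientGroup.mk' C x, hx⟩
    rw [hsm] at h1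
    have h2 : x * b * x⁻¹ = b := congrArg Subtype.val h1
    calc x * b = x * b * x⁻¹ * x := by group
      _ = b * x := by rw [h2]
  have hF1 : F ≠ ⊥ := by
    intro h
    rw [h, Subgroup.mem_bot] at hbF
    exact hb1 (Subtype.ext hbF).symm
  have hFW : F = W := hmin F hFn inf_le_left hF1
  rw [eq_bot_iff]
  intro nb hnb
  obtain ⟨n, rfl⟩ := QuotientGroup.mk'_surjective C nb
  rw [Subgroup.mem_bot, QuotientGroup.mk'_apply, QuotientGroup.eq_one_iff, hC, Subgroup.mem_centralizer_iff]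
  intro w hw
  have h1 : w ∈ F := hFW.symm ▸ hw
  exact ((Subgroup.mem_centralizer_iff.1 h1.2) n hnb).symm

theorem ne_bot_of_orderOf {Q : Type*} [Group Q] {x : Q} {q : ℕ} (hq : q.Prime) (h : orderOf x = q) : x ≠ 1 := by
  rintro rfl
  rw [orderOf_one] at h
  exact hq.ne_one h.symm

/-- **Lemma K** -/
theorem lemK [Finite G] {W : Subgroup G} (hW : W.Normal) (hW1 : W ≠ ⊥)
    (hmin : ∀ N : Subgroup G, N.Normal → N ≤ W → N ≠ ⊥ → N = W) {p : ℕ} (hp : p.Prime) (hWp : ∀ w ∈ W, w ^ p = 1)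
    (hWc : ∀ a ∈ W, ∀ b ∈ W, a * b = b * a)
    [hCn : (Subgroup.centralizer (W : Set G)).Normal]
    (k1 : ∀ y : G, (∃ j, y ^ p ^ j = 1) → y ∉ Subgroup.centralizer (W : Set G) → ∀ w ∈ W, PP y w p = 1)
    (k2 : ∀ s : ℕ, s.Prime → s ≠ p → ∀ e : G, (∃ j, e ^ s ^ j = 1) → e ∉ Subgroup.centralizer (W : Set G) →
      ∀ w ∈ W, e * w = w * e → w = 1)
    (k3 : ∀ (x : G) (s : ℕ), s.Prime → s ≠ p → p ∣ orderOf (QuotientGroup.mk' (Subgroup.centralizer (W : Set G)) x) →
      s ∣ orderOf (QuotientGroup.mk' (Subgroup.centralizer (W : Set G)) x) → False) :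
    ¬ p ∣ Nat.card (G ⧸ Subgroup.centralizer (W : Set G)) := by
  classical
  haveI := Fact.mk hp
  set C := Subgroup.centralizer (W : Set G) with hC
  intro hd
  have hWC : ∀ w ∈ W, w ∈ C := by
    intro w hw
    rw [hC, Subgroup.mem_centralizer_iff]
    intro v hv; exact hWc v hv w hw
  have hCc : ∀ c ∈ C, ∀ w ∈ W, c * w = w * c := by
    intro c hc w hw
    exact ((Subgroup.mem_centralizer_iff.1 hc) w hw).symm
  obtain ⟨y, hy1, hy2⟩ := exists_lift_q C hp hd
  have hyC : y ∉ C := mk_ne hp hy2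
  by_cases h2 : p = 2
  · subst h2
    apply hyC
    rw [hC, Subgroup.mem_centralizer_iff]
    intro w hw
    have h3 := k1 y hy1 hyC w hw
    have h4 : w * (y * w * y⁻¹) = 1 := by
      have : PP y w 2 = w * (y * w * y⁻¹) := by simp [PP]
      rw [← this, h3]
    have h5 := hWp w hw
    have h6 : y * w * y⁻¹ = w := by
      have : w * w = 1 := by rw [← pow_two]; exact h5
      have h7 : y * w * y⁻¹ = w⁻¹ := eq_inv_of_mul_eq_one_right h4
      rw [h7]; exact inv_eq_of_mul_eq_one_left this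
    calc w * y = (y * w * y⁻¹) * y := by rw [h6]
      _ = y * w := by group
  by_cases hev : Even (Nat.card (G ⧸ C))
  · obtain ⟨i, hi1, hi2⟩ := exists_lift_q C Nat.prime_two (even_iff_two_dvd.1 hev)
    have hiC : i ∉ C := mk_ne Nat.prime_two hi2
    have hii : i * i ∈ C := by
      have : (QuotientGroup.mk' C i) ^ 2 = 1 := by rw [← hi2]; exact pow_orderOf_eq_one _
      rw [← map_pow, QuotientGroup.mk'_apply, QuotientGroup.eq_one_iff, pow_two] at this
      exact this
    have hinv : ∀ w ∈ W, i * w * i⁻¹ = w⁻¹ := by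
      intro w hw
      have hw' : i * w * i⁻¹ ∈ W := hW.conj_mem w hw i
      have h3 : w * (i * w * i⁻¹) = 1 := by
        refine k2 2 Nat.prime_two (Ne.symm h2) i hi1 hiC _ (W.mul_mem hw hw') ?_
        have h4 : i * i * w * (i * i)⁻¹ = w := by rw [hCc _ hii w hw]; group
        have h5 : i * (w * (i * w * i⁻¹)) * i⁻¹ = w * (i * w * i⁻¹) := by
          calc i * (w * (i * w * i⁻¹)) * i⁻¹ = (i * w * i⁻¹) * (i * i * w * (i * i)⁻¹) := by group
            _ = (i * w * i⁻¹) * w := by rw [h4]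
            _ = w * (i * w * i⁻¹) := hWc _ hw' _ hw
        calc i * (w * (i * w * i⁻¹)) = i * (w * (i * w * i⁻¹)) * i⁻¹ * i := by group
          _ = w * (i * w * i⁻¹) * i := by rw [h5]
      exact eq_inv_of_mul_eq_one_right h3
    have hcomm : Commute (QuotientGroup.mk' C i) (QuotientGroup.mk' C y) := by
      show QuotientGroup.mk' C i * QuotientGroup.mk' C y = QuotientGroup.mk' C y * QuotientGroup.mk' C i
      rw [← map_mul, ← map_mul, QuotientGroup.mk'_apply, QuotientGroup.mk'_apply, QuotientGroup.eq, hC,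
        Subgroup.mem_centralizer_iff]
      intro w hw
      have hyw : y * w * y⁻¹ ∈ W := hW.conj_mem w hw y
      have h3 : (i * y) * w * (i * y)⁻¹ = (y * i) * w * (y * i)⁻¹ := by
        calc (i * y) * w * (i * y)⁻¹ = i * (y * w * y⁻¹) * i⁻¹ := by group
          _ = (y * w * y⁻¹)⁻¹ := hinv _ hyw
          _ = y * w⁻¹ * y⁻¹ := by group
          _ = y * (i * w * i⁻¹) * y⁻¹ := by rw [hinv w hw]
          _ = (y * i) * w * (y * i)⁻¹ := by group
      calc w * ((i * y)⁻¹ * (y * i)) = (i * y)⁻¹ * ((i * y) * w * (i * y)⁻¹) * (y * i) := by group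
        _ = (i * y)⁻¹ * ((y * i) * w * (y * i)⁻¹) * (y * i) := by rw [h3]
        _ = (i * y)⁻¹ * (y * i) * w := by group
    have hord : orderOf (QuotientGroup.mk' C (i * y)) = 2 * p := by
      rw [map_mul, hcomm.orderOf_mul_eq_mul_orderOf_of_coprime, hi2, hy2]
      rw [hi2, hy2]
      exact (Nat.coprime_primes Nat.prime_two hp).2 (Ne.symm h2)
    exact k3 (i * y) 2 Nat.prime_two (Ne.symm h2) (by rw [hord]; exact dvd_mul_left _ _)
      (by rw [hord]; exact dvd_mul_right _ _)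
  · haveI : Group.IsSolvable (G ⧸ C) := Cfsg.Agent.FT.solvable_of_odd (Nat.not_even_iff_odd.1 hev)
    haveI : Nontrivial (G ⧸ C) := nontrivial_of_ne _ _ (ne_bot_of_orderOf hp hy2)
    obtain ⟨s, Nb, hs, hNn, hN1, hNe⟩ := Cfsg.Agent.H30.exists_normal_elementaryAbelian (G ⧸ C)
    haveI := hNn
    have hNs : ∀ x ∈ Nb, x ^ s = 1 := by
      intro x hx
      exact hNe.2 x hx
    have hNpg : IsPGroup s Nb := fun x => ⟨1, by rw [pow_one]; exact Subtype.ext (hNs x x.2)⟩
    by_cases hsp : s = p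
    · subst hsp
      exact hN1 (eq_of_pgroup hW hW1 hmin hs hWp Nb hNn hNpg)
    · -- `y` acts fixed point freely
      have hstep : ∀ (i : ℕ) (e : G), 0 < i → i < p → QuotientGroup.mk' C e ∈ Nb → y ^ i * e * (y ^ i)⁻¹ * e⁻¹ ∈ C →
          e ∈ C := by
        intro i e hi0 hip he hcm
        by_contra heC
        have he1 : QuotientGroup.mk' C e ≠ 1 := by
          intro h; exact heC ((QuotientGroup.eq_one_iff e).1 h)
        haveI := Fact.mk hs
        have ho1 : orderOf (QuotientGroup.mk' C e) = s := orderOf_eq_prime (hNs _ he) he1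
        have ho2 : orderOf (QuotientGroup.mk' C (y ^ i)) = p := by
          rw [map_pow, orderOf_pow, hy2]
          have : Nat.gcd p i = 1 := Nat.Coprime.gcd_eq_one
            ((Nat.Prime.coprime_iff_not_dvd hp).2 fun hd => absurd (Nat.le_of_dvd hi0 hd) (by omega))
          rw [this, Nat.div_one]
        have hcomm : Commute (QuotientGroup.mk' C (y ^ i)) (QuotientGroup.mk' C e) := by
          show QuotientGroup.mk' C (y ^ i) * QuotientGroup.mk' C e = QuotientGroup.mk' C e * QuotientGroup.mk' C (y ^ i)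
          have h3 : QuotientGroup.mk' C (y ^ i * e * (y ^ i)⁻¹ * e⁻¹) = 1 := (QuotientGroup.eq_one_iff _).2 hcm
          rw [← map_mul, ← map_mul]
          calc QuotientGroup.mk' C (y ^ i * e) = QuotientGroup.mk' C ((y ^ i * e * (y ^ i)⁻¹ * e⁻¹) * (e * y ^ i)) := by
                congr 1; group
            _ = QuotientGroup.mk' C (e * y ^ i) := by rw [map_mul, h3, one_mul]
        have hord : orderOf (QuotientGroup.mk' C (y ^ i * e)) = p * s := by
          rw [map_mul, hcomm.orderOf_mul_eq_mul_orderOf_of_coprime, ho1, ho2]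
          rw [ho1, ho2]
          exact (Nat.coprime_primes hp hs).2 (Ne.symm hsp)
        exact k3 _ s hs hsp (by rw [hord]; exact dvd_mul_right _ _) (by rw [hord]; exact dvd_mul_left _ _)
      have hall := phiG (W := W) (Z := C) (E := Nb.comap (QuotientGroup.mk' C)) hW hCn hWc hCc (g := y) (r := p) hp.pos
        (fun e he => by
          have : QuotientGroup.mk' C (y * e * y⁻¹) ∈ Nb := by
            rw [map_mul, map_mul, map_inv]
            exact hNn.conj_mem _ he _
          exact this)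
        (fun i hi0 hip e he hcm => hstep i e hi0 hip he hcm)
        (fun e _ w hw => by
          apply k1 _ _ _ w hw
          · obtain ⟨j, hj⟩ := hy1
            exact ⟨j, by rw [conj_pow, hj]; group⟩
          · intro hc
            apply hyC
            have := hCn.conj_mem _ hc e⁻¹
            have e1 : e⁻¹ * (e * y * e⁻¹) * e⁻¹⁻¹ = y := by group
            rwa [e1] at this)
        (fun w hw hcw => by
          obtain ⟨nb, hnb, hnb1⟩ := (Subgroup.bot_or_exists_ne_one Nb).resolve_left hN1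
          obtain ⟨n, rfl⟩ := QuotientGroup.mk'_surjective C nb
          haveI := Fact.mk hs
          have ho : orderOf (QuotientGroup.mk' C n) = s := orderOf_eq_prime (hNs _ hnb) hnb1
          obtain ⟨m, hm1, hm2⟩ := lift_q C hs ho
          refine k2 s hs hsp (n ^ m) hm1 (mk_ne hs hm2) w hw (hcw _ ?_)
          show QuotientGroup.mk' C (n ^ m) ∈ Nb
          rw [map_pow]; exact pow_mem hnb m)
      have hmap : (Nb.comap (QuotientGroup.mk' C)).map (QuotientGroup.mk' C) = Nb :=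
        Subgroup.map_comap_eq_self_of_surjective (QuotientGroup.mk'_surjective C) Nb
      rw [hmap] at hall
      haveI := Fact.mk hs
      obtain ⟨k, hk⟩ := hNpg.exists_card_eq
      apply hW1
      rw [eq_bot_iff]
      intro w hw
      rw [Subgroup.mem_bot]
      have h3 := hall w hw
      rw [hk] at h3
      have h4 : orderOf w ∣ p := orderOf_dvd_of_pow_eq_one (hWp w hw)
      have h5 : orderOf w ∣ s ^ k := orderOf_dvd_of_pow_eq_one h3
      have h6 : Nat.Coprime p (s ^ k) := ((Nat.coprime_primes hp hs).2 (Ne.symm hsp)).pow_right k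
      exact orderOf_eq_one_iff.1 (Nat.Coprime.eq_one_of_dvd (Nat.Coprime.coprime_dvd_left h4 h6) h5)

/-- Frobenius groups from a kernel -/
theorem frobK {G : Type*} [Group G] [Finite G] {C : Subgroup G} (hC : C.Normal) (h1 : C ≠ ⊥) (h2 : C ≠ ⊤)
    (h : ∀ c ∈ C, c ≠ 1 → ∀ g, g * c = c * g → g ∈ C) : ∃ K : Subgroup G, Cfsg.IsFrobeniusComplement K := by
  classical
  have hcop : Nat.Coprime (Nat.card C) C.index := by
    rw [Nat.coprime_iff_gcd_eq_one]
    by_contra hne
    obtain ⟨q, hq, hqd⟩ := Nat.exists_prime_and_dvd hne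
    haveI := Fact.mk hq
    obtain ⟨c, hc⟩ := exists_prime_orderOf_dvd_card' (G := C) q (hqd.trans (Nat.gcd_dvd_left _ _))
    have hcp : IsPGroup q (Subgroup.zpowers (c : G)) := by
      rw [IsPGroup.iff_card]
      exact ⟨1, by rw [Nat.card_zpowers, Subgroup.orderOf_coe, hc, pow_one]⟩
    obtain ⟨Q, hQ⟩ := hcp.exists_le_sylow
    have hcQ : (c : G) ∈ (Q : Subgroup G) := hQ (Subgroup.mem_zpowers _)
    have hc1 : (c : G) ≠ 1 := by
      intro e
      have : c = 1 := Subtype.ext e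
      rw [this, orderOf_one] at hc
      exact hq.ne_one hc.symm
    obtain ⟨v, hv, hv1, hvQ⟩ := Cfsg.Agent.H67.exists_fixed_of_pgroup (p := q) (Q : Subgroup G) ((Q : Subgroup G) ⊓ C)
      Q.2 (Q.2.to_le inf_le_left) (by
        intro hb
        have : (c : G) ∈ ((Q : Subgroup G) ⊓ C) := ⟨hcQ, c.2⟩
        rw [hb, Subgroup.mem_bot] at this
        exact hc1 this) (by
        intro x hx
        rw [Subgroup.mem_normalizer_iff]
        intro z
        constructor
        · rintro ⟨hz1, hz2⟩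
          exact ⟨(Q : Subgroup G).mul_mem ((Q : Subgroup G).mul_mem hx hz1) ((Q : Subgroup G).inv_mem hx), hC.conj_mem z hz2 x⟩
        · rintro ⟨hz1, hz2⟩
          have e1 : z = x⁻¹ * (x * z * x⁻¹) * x := by group
          refine ⟨?_, ?_⟩
          · rw [e1]
            exact (Q : Subgroup G).mul_mem ((Q : Subgroup G).mul_mem ((Q : Subgroup G).inv_mem hx) hz1) hx
          · rw [e1]
            have := hC.conj_mem _ hz2 x⁻¹
            simpa using this)
    have hQC : (Q : Subgroup G) ≤ C := by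
      intro x hx
      apply h v hv.2 hv1
      have := hvQ x hx
      calc x * v = x * v * x⁻¹ * x := by group
        _ = v * x := by rw [this]
    exact Q.not_dvd_index ((hqd.trans (Nat.gcd_dvd_right _ _)).trans (Subgroup.index_dvd_of_le hQC))
  obtain ⟨K, hK⟩ := Subgroup.exists_right_complement'_of_coprime hcop
  haveI := hC
  have hK1 : K ≠ ⊥ := by
    rintro rfl
    apply h2
    have := hK.sup_eq_top
    simpa using this
  refine ⟨K, (Cfsg.Agent.Frob.isFrobeniusComplement_iff_fpf hK h1 hK1).2 ?_⟩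
  intro k hk hk1
  rw [eq_bot_iff]
  rintro c ⟨hc1, hc2⟩
  rw [Subgroup.mem_bot]
  by_contra hne
  have hkc : k * c = c * k := Subgroup.mem_centralizer_iff.mp hc2 k rfl
  exact hk1 (Subgroup.disjoint_def.mp hK.disjoint (h c hc1 hne k hkc) hk)

end Cfsg.Agent.Ptn
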