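import Cfsg.Agent.Ptn.Basic
import Cfsg.Agent.S3946

set_option autoImplicit false

namespace Cfsg.Agent.Ptn

variable {G : Type*} [Group G]

/-- `x · kxk⁻¹ · k²xk⁻² ⋯` -/
def PP (k x : G) : ℕ → G
  | 0 => 1
  | n + 1 => PP k x n * (k ^ n * x * (k ^ n)⁻¹)

theorem PP_pow (k x : G) (n : ℕ) : PP k x n * k ^ n = (x * k) ^ n := by
  induction n with
  | zero => simp [PP]
  | succ n ih =>
    rw [PP, pow_succ (x * k), ← ih, pow_succ k n]
    group

theorem PP_mem {K : Subgroup G} {k x : G} (hk : ∀ y ∈ K, k * y * k⁻¹ ∈ K) (hx : x ∈ K) (n : ℕ) : PP k x n ∈ K := by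
  have h1 : ∀ n : ℕ, k ^ n * x * (k ^ n)⁻¹ ∈ K := by
    intro n
    induction n with
    | zero => simpa using hx
    | succ n ih =>
      have := hk _ ih
      have e : k ^ (n + 1) * x * (k ^ (n + 1))⁻¹ = k * (k ^ n * x * (k ^ n)⁻¹) * k⁻¹ := by
        rw [pow_succ']; group
      rwa [e]
  induction n with
  | zero => exact one_mem _
  | succ n ih => exact mul_mem ih (h1 n)

namespace NP

variable {X : G → Subgroup G} (h : NP X)
include h

/-- self-normalizing components are Frobenius complements -/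
theorem frob_of_self {g : G} (hg : g ≠ 1) (hself : ∀ k, (∀ x ∈ X g, k * x * k⁻¹ ∈ X g) → k ∈ X g) :
    Cfsg.IsFrobeniusComplement (X g) := by
  refine ⟨?_, h.ne_top hg, ?_⟩
  · intro hb
    have := h.mem g
    rw [hb, Subgroup.mem_bot] at this
    exact hg this
  · intro k hk
    rw [eq_bot_iff]
    rintro y ⟨hy1, hy2⟩
    rw [Subgroup.mem_bot]
    by_contra hne
    obtain ⟨x, hx, rfl⟩ := hy2
    have hx1 : x ≠ 1 := by
      rintro rfl
      exact hne (by simp)
    exact hk (hself k fun z hz => h.norm_of hg hx hx1 hy1 hz)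

theorem pow_eq_one [Finite G] {g k : G} (hg : g ≠ 1) (hk : k ∉ X g) {n : ℕ} (hn : k ^ n ∈ X g) : k ^ n = 1 := by
  by_contra hne
  have h1 : X (k ^ n) = X g := h.eq hg hn hne
  have hk1 : k ≠ 1 := by rintro rfl; exact hk (one_mem _)
  have h2 := h.comm hne hk1 ((Commute.refl k).pow_left n) (by rwa [h1])
  have h3 : Subgroup.zpowers (k ^ n) = Subgroup.zpowers k := by
    apply Subgroup.eq_of_le_of_card_ge
    · rw [Subgroup.zpowers_le]; exact pow_mem (Subgroup.mem_zpowers k) n
    · rw [Nat.card_zpowers, Nat.card_zpowers, h2.2]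
  have h4 : k ∈ Subgroup.zpowers (k ^ n) := h3 ▸ Subgroup.mem_zpowers k
  exact hk ((Subgroup.zpowers_le.2 hn) h4)

theorem exists_prime_pow [Finite G] {K : Subgroup G} {k : G} (hk : k ∉ K) :
    ∃ (m r : ℕ), r.Prime ∧ k ^ m ∉ K ∧ (k ^ m) ^ r ∈ K := by
  classical
  have hex : ∃ n : ℕ, 0 < n ∧ k ^ n ∈ K := ⟨orderOf k, orderOf_pos k, by rw [pow_orderOf_eq_one]; exact one_mem _⟩
  have hspec := Nat.find_spec hex
  have hn1 : Nat.find hex ≠ 1 := by
    intro e
    rw [e, pow_one] at hspec
    exact hk hspec.2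
  obtain ⟨r, hr, m, hm⟩ := Nat.exists_prime_and_dvd hn1
  refine ⟨m, r, hr, ?_, ?_⟩
  · intro hc
    have hm0 : 0 < m := by
      rcases Nat.eq_zero_or_pos m with h0 | h0
      · rw [h0, mul_zero] at hm; omega
      · exact h0
    have := Nat.find_min' hex ⟨hm0, hc⟩
    have h2 := hr.two_le
    nlinarith
  · rw [← pow_mul, mul_comm, ← hm]
    exact hspec.2

omit h in
theorem mul_notin {K : Subgroup G} {x k : G} (hx : x ∈ K) (hk : k ∉ K) : x * k ∉ K := by
  intro hc
  apply hk
  have := mul_mem (inv_mem hx) hc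
  simpa using this

/-- the splitting identity -/
theorem PP_eq_one [Finite G] {g k x : G} (hg : g ≠ 1) (hn : ∀ y ∈ X g, k * y * k⁻¹ ∈ X g) (hk : k ∉ X g) {r : ℕ}
    (hr : k ^ r ∈ X g) (hx : x ∈ X g) : PP k x r = 1 ∧ k ^ r = 1 := by
  have h1 : k ^ r = 1 := h.pow_eq_one hg hk hr
  refine ⟨?_, h1⟩
  have h2 : (x * k) ^ r ∈ X g := by
    rw [← PP_pow, h1, mul_one]
    exact PP_mem hn hx r
  have h3 := h.pow_eq_one hg (mul_notin hx hk) h2
  rw [← PP_pow, h1, mul_one] at h3
  exact h3

/-- components which are not self-normalizing are nilpotent -/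
theorem nilp_of_norm [Finite G] {g k : G} (hg : g ≠ 1) (hn : ∀ y ∈ X g, k * y * k⁻¹ ∈ X g) (hk : k ∉ X g) :
    Group.IsNilpotent (X g) := by
  obtain ⟨m, r, hr, hm1, hm2⟩ := h.exists_prime_pow hk
  haveI : Fact r.Prime := ⟨hr⟩
  have hkm : k ^ m ∈ Subgroup.normalizer (X g : Set G) := pow_mem (mem_normalizer.2 hn) m
  have hn' := mem_normalizer.1 hkm
  generalize k ^ m = l at hm1 hm2 hkm hn'
  have hl1 : l ≠ 1 := by rintro rfl; exact hm1 (one_mem _)
  -- the automorphism
  let α : MulAut (X g) :=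
    MulAut.conjNormal (H := (X g).subgroupOf (Subgroup.normalizer (X g : Set G))) ⟨l, hkm⟩ |> fun f =>
      ((Subgroup.subgroupOfEquivOfLe Subgroup.le_normalizer).symm.trans f).trans
        (Subgroup.subgroupOfEquivOfLe Subgroup.le_normalizer)
  have hα : ∀ x : X g, ((α x : X g) : G) = l * x * l⁻¹ := fun x => rfl
  have hαi : ∀ (i : ℕ) (x : X g), (((α ^ i) x : X g) : G) = l ^ i * x * (l ^ i)⁻¹ := by
    intro i
    induction i with
    | zero => intro x; simp
    | succ i ih =>
      intro x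
      rw [pow_succ' α, MulAut.mul_apply, hα, ih, pow_succ' l]
      group
  have hprod : ∀ (n : ℕ) (x : X g), ((((List.range n).map (fun i : ℕ => (α ^ i) x)).prod : X g) : G) = PP l x n := by
    intro n x
    induction n with
    | zero => simp [PP]
    | succ n ih =>
      rw [List.range_succ, List.map_append, List.prod_append, List.map_singleton, List.prod_singleton,
        Subgroup.coe_mul, ih, hαi, PP]
  have hlr : l ^ r = 1 := h.pow_eq_one hg hm1 hm2
  have hαr : α ^ r = 1 := by
    ext x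
    rw [hαi, hlr]; simp
  by_cases h1 : α = 1
  · -- exponent r
    have hp : IsPGroup r (X g) := by
      intro x
      by_cases hx : x = 1
      · exact ⟨0, by rw [hx]; simp⟩
      · have hx' : (x : G) ≠ 1 := fun e => hx (Subtype.ext e)
        have hc : (x : G) * l = l * x := by
          have h2 := hα x
          rw [h1] at h2
          have h3 : (x : G) = l * x * l⁻¹ := h2
          calc (x : G) * l = l * x * l⁻¹ * l := by rw [← h3]
            _ = l * x := by group
        have h4 := h.comm hx' hl1 hc (by rw [h.eq hg x.2 hx']; exact hm1)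
        refine ⟨1, Subtype.ext ?_⟩
        have h5 : orderOf l = r := orderOf_eq_prime hlr hl1
        rw [pow_one, Subgroup.coe_pow, ← h5, h4.2, pow_orderOf_eq_one]
        rfl
    exact hp.isNilpotent
  · have ho : orderOf α = r := orderOf_eq_prime hαr h1
    refine Cfsg.Agent.S3946.result α (by rw [ho]; exact hr) ?_
    intro x
    rw [ho]
    apply Subtype.ext
    rw [hprod]
    exact (h.PP_eq_one hg hn' hm1 hm2 x.2).1

end NP

end Cfsg.Agent.Ptn
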