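import Cfsg.Agent.Ptn.AbMin

set_option autoImplicit false

namespace Cfsg.Agent.Ptn

variable {G : Type*} [Group G]

theorem nat_four {n : ℕ} (h1 : n ∣ 8) (h2 : n % 3 = 1) (h3 : n ≠ 1) : n = 4 := by
  have h4 : n ≤ 8 := Nat.le_of_dvd (by norm_num) h1
  interval_cases n
  all_goals first | rfl | omega | (exfalso; revert h1; decide)

/-- automorphisms permute the nonidentity elements -/
def permNe (C : Type*) [Group C] : MulAut C →* Equiv.Perm {c : C // c ≠ 1} where
  toFun α :=
    { toFun := fun c => ⟨α c, fun e => c.2 (by simpa using e)⟩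
      invFun := fun c => ⟨α.symm c, fun e => c.2 (by simpa using e)⟩
      left_inv := fun c => Subtype.ext (by simp)
      right_inv := fun c => Subtype.ext (by simp) }
  map_one' := by ext; rfl
  map_mul' := by intro a b; ext; rfl

namespace NP

namespace AM

variable {X : G → Subgroup G} {M : Subgroup G} (A : AM X M 2)
include A

theorem invC [Finite G] {c : G} (hc : c ∈ Subgroup.centralizer (M : Set G)) : c * c = 1 := by
  rw [← pow_two]; exact A.powC hc

theorem commC [Finite G] {c d : G} (hc : c ∈ Subgroup.centralizer (M : Set G)) (hd : d ∈ Subgroup.centralizer (M : Set G)) :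
    c * d = d * c := by
  have h1 := A.invC (mul_mem hc hd)
  have h2 := A.invC hc
  have h3 := A.invC hd
  calc c * d = c * (c * d * (c * d)) * d := by rw [h1]; group
    _ = (c * c) * d * c * (d * d) := by group
    _ = d * c := by rw [h2, h3]; group

theorem half [Finite G] {y : G} (hy : ∃ j, y ^ 2 ^ j = 1) (hy2 : y ^ 2 ≠ 1) :
    (∀ c ∈ Subgroup.centralizer (M : Set G), ∀ d ∈ Subgroup.centralizer (M : Set G), c ∉ X y → d ∉ X y → c * d ∈ X y) ∧
    (∀ c ∈ Subgroup.centralizer (M : Set G), c ∈ X y → c * y = y * c) ∧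
    (∃ m ∈ M, m ∉ X y) ∧ (∃ m ∈ M, m ≠ 1 ∧ m ∈ X y) ∧ y ^ 2 ∈ M := by
  obtain ⟨m0, hm0, hm01, hym⟩ := A.exists_fixM hy
  obtain ⟨hyX, hN⟩ := A.normpow hy2 hm0 hm01 hym
  have hy1 : y ≠ 1 := by rintro rfl; exact hy2 (one_pow _)
  have hXX : X y = X m0 := A.np.eq hm01 hyX hy1
  rw [hXX]
  haveI := A.normal
  haveI hCn : (Subgroup.centralizer (M : Set G)).Normal := inferInstance
  have hMC : ∀ w ∈ M, w ∈ Subgroup.centralizer (M : Set G) := by
    intro w hw
    rw [Subgroup.mem_centralizer_iff]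
    intro v hv; exact A.comm v hv w hw
  have hCc : ∀ a ∈ Subgroup.centralizer (M : Set G), ∀ b ∈ Subgroup.centralizer (M : Set G), a * b = b * a :=
    fun a ha b hb => A.commC ha hb
  obtain ⟨m, hm, hmX⟩ : ∃ m ∈ M, m ∉ X m0 := by
    by_contra hcon
    push Not at hcon
    exact A.nle m0 hm0 hm01 hcon
  have hi : ∀ c ∈ Subgroup.centralizer (M : Set G), ∀ d ∈ Subgroup.centralizer (M : Set G), c ∉ X m0 → d ∉ X m0 →
      c * d ∈ X m0 := by
    intro c hc d hd hcX hdX
    by_contra hcd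
    have h1 := hN (c * d) (mul_mem hc hd) hcd
    rw [A.PP_mul hCn hCc hc hd, hN c hc hcX, hN d hd hdX] at h1
    exact hy2 (inv_eq_one.1 (mul_eq_left.1 h1))
  have hPP : ∀ c : G, PP y c 2 = c * (y * c * y⁻¹) := by intro c; simp [PP]
  refine ⟨hi, ?_, ⟨m, hm, hmX⟩, ⟨m0, hm0, hm01, A.np.mem m0⟩, ?_⟩
  · intro c hc hcX
    have h1 : c * m ∉ X m0 := by
      intro hh
      apply hmX
      have := mul_mem (inv_mem hcX) hh
      simpa using this
    have h2 := hN (c * m) (mul_mem hc (hMC m hm)) h1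
    rw [A.PP_mul hCn hCc hc (hMC m hm), hN m (hMC m hm) hmX] at h2
    have h3 : PP y c 2 = 1 := mul_eq_right.1 h2
    rw [hPP] at h3
    have h4 := A.invC hc
    have h5 : y * c * y⁻¹ = c := by
      have e1 : y * c * y⁻¹ = c⁻¹ := eq_inv_of_mul_eq_one_right h3
      rw [e1]; exact inv_eq_of_mul_eq_one_left h4
    calc c * y = y * c * y⁻¹ * y := by rw [h5]
      _ = y * c := by group
  · have h1 := hN m (hMC m hm) hmX
    have h2 : PP y m 2 ∈ M := PP_mem (fun z hz => A.normal.conj_mem z hz y) hm 2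
    rw [h1] at h2
    exact inv_mem_iff.1 h2

theorem case_S4 [Finite G] (hmin : ∀ N : Subgroup G, N.Normal → N ≤ M → N ≠ ⊥ → N = M) {y : G}
    (hy : ∃ j, y ^ 2 ^ j = 1) (hy2 : y ^ 2 ≠ 1) : Nonempty (G ≃* Equiv.Perm (Fin 4)) := by
  classical
  haveI := Fact.mk Nat.prime_two
  haveI := Fact.mk Nat.prime_three
  haveI := A.normal
  haveI hCn : (Subgroup.centralizer (M : Set G)).Normal := inferInstance
  set C := Subgroup.centralizer (M : Set G) with hC
  have hMC : ∀ w ∈ M, w ∈ C := by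
    intro w hw
    rw [hC, Subgroup.mem_centralizer_iff]
    intro v hv; exact A.comm v hv w hw
  obtain ⟨hi1, hi2, ⟨m, hm, hmX⟩, ⟨m0, hm0, hm01, hm0X⟩, hy2M⟩ := A.half hy hy2
  have hyC : y ∉ C := fun hc => hy2 (A.powC hc)
  have hy1 : y ≠ 1 := by rintro rfl; exact hy2 (one_pow _)
  have hoy : orderOf (QuotientGroup.mk' C y) = 2 := by
    apply orderOf_eq_prime
    · rw [← map_pow]; exact (QuotientGroup.eq_one_iff _).2 (hMC _ hy2M)
    · intro hc; exact hyC ((QuotientGroup.eq_one_iff y).1 hc)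
  -- Baer-Suzuki
  obtain ⟨g, hg⟩ : ∃ g : G, ¬ IsPGroup 2 (Subgroup.closure ({QuotientGroup.mk' C y, QuotientGroup.mk' C g * QuotientGroup.mk' C y * (QuotientGroup.mk' C g)⁻¹} : Set (G ⧸ C))) := by
    by_contra hcon
    push Not at hcon
    obtain ⟨N, hN, hNp, hyN⟩ := Cfsg.Agent.H4.baer_suzuki_elem (p := 2) (QuotientGroup.mk' C y) (fun gb => by
      obtain ⟨g, rfl⟩ := QuotientGroup.mk'_surjective C gb
      exact hcon g)
    have h1 := eq_of_pgroup A.normal A.ne_bot hmin Nat.prime_two A.pow N hN hNp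
    rw [h1, Subgroup.mem_bot] at hyN
    rw [hyN, orderOf_one] at hoy
    omega
  obtain ⟨y', hy'⟩ : ∃ y', y' = g * y * g⁻¹ := ⟨_, rfl⟩
  have hy'p : ∃ j, y' ^ 2 ^ j = 1 := by
    obtain ⟨j, hj⟩ := hy
    exact ⟨j, by rw [hy', conj_pow, hj]; group⟩
  have hy'2 : y' ^ 2 ≠ 1 := by
    rw [hy', conj_pow]; exact cj_ne hy2
  obtain ⟨hi1', hi2', -, -, hy'2M⟩ := A.half hy'p hy'2
  have hno : ¬ ∃ k, orderOf (QuotientGroup.mk' C (y * y')) = 2 ^ k := by
    rintro ⟨k, hk⟩
    apply hg
    have e : QuotientGroup.mk' C g * QuotientGroup.mk' C y * (QuotientGroup.mk' C g)⁻¹ = QuotientGroup.mk' C y' := by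
      rw [hy', map_mul, map_mul, map_inv]
    rw [e]
    apply Cfsg.Agent.RankThree.isPGroup_two_of_pow (k := k)
    · rw [← pow_two, ← map_pow]; exact (QuotientGroup.eq_one_iff _).2 (hMC _ hy2M)
    · rw [← pow_two, ← map_pow]; exact (QuotientGroup.eq_one_iff _).2 (hMC _ hy'2M)
    · rw [← map_mul, ← hk, pow_orderOf_eq_one]
  obtain ⟨r, hr, hrd, hrodd⟩ : ∃ r, r.Prime ∧ r ∣ orderOf (QuotientGroup.mk' C (y * y')) ∧ Odd r := by
    rcases Nat.eq_two_pow_or_exists_odd_prime_and_dvd (orderOf (QuotientGroup.mk' C (y * y'))) with ⟨k, hk⟩ | ⟨r, h1, h2, h3⟩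
    · exact absurd ⟨k, hk⟩ hno
    · exact ⟨r, h1, h2, h3⟩
  have hr2 : r ≠ 2 := by rintro rfl; exact absurd hrodd (by decide)
  have hrz : r ∣ orderOf (y * y') := hrd.trans (orderOf_map_dvd _ _)
  have hko := A.np.orderOf_pow_div hr hrz
  obtain ⟨k, hk⟩ : ∃ k, k = (y * y') ^ (orderOf (y * y') / r) := ⟨_, rfl⟩
  rw [← hk] at hko
  have hkr : ∃ j, k ^ r ^ j = 1 := ⟨1, by rw [pow_one, ← hko, pow_orderOf_eq_one]⟩
  have hk1 : k ≠ 1 := by intro e; rw [e, orderOf_one] at hko; exact hr.ne_one hko.symm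
  have htriv : ∀ c ∈ C, c ∈ X y → c ∈ X y' → c = 1 := by
    intro c hc h1 h2
    apply A.fpfC hr hr2 hkr hk1 hc
    rw [hk]
    have h3 := hi2 c hc h1
    have h4 := hi2' c hc h2
    have h5 : Commute c (y * y') := (show Commute c y from h3).mul_right h4
    exact h5.pow_right _
  -- |C| = 4
  have hsame : ∀ c ∈ C, ∀ d ∈ C, (c ∈ X y ↔ d ∈ X y) → (c ∈ X y' ↔ d ∈ X y') → c = d := by
    intro c hc d hd h1 h2
    have h3 : c * d ∈ X y := by
      by_cases hcX : c ∈ X y
      · exact mul_mem hcX (h1.1 hcX)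
      · exact hi1 c hc d hd hcX (fun hh => hcX (h1.2 hh))
    have h4 : c * d ∈ X y' := by
      by_cases hcX : c ∈ X y'
      · exact mul_mem hcX (h2.1 hcX)
      · exact hi1' c hc d hd hcX (fun hh => hcX (h2.2 hh))
    have h5 := htriv _ (mul_mem hc hd) h3 h4
    have h6 := A.invC hd
    calc c = c * d * d := by rw [mul_assoc, h6, mul_one]
      _ = d := by rw [h5, one_mul]
  have hcard_le : Nat.card C ≤ 4 := by
    let f : C → Bool × Bool := fun c => (decide ((c : G) ∈ X y), decide ((c : G) ∈ X y'))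
    have hf : Function.Injective f := by
      intro c d hcd
      have h1 : decide ((c : G) ∈ X y) = decide ((d : G) ∈ X y) := congrArg Prod.fst hcd
      have h2 : decide ((c : G) ∈ X y') = decide ((d : G) ∈ X y') := congrArg Prod.snd hcd
      exact Subtype.ext (hsame c c.2 d d.2 (by simpa using h1) (by simpa using h2))
    have := Nat.card_le_card_of_injective f hf
    simpa using this
  have hCpg : IsPGroup 2 C := fun c => ⟨1, by rw [pow_one]; exact Subtype.ext (A.powC c.2)⟩
  have hcard : Nat.card C = 4 := by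
    obtain ⟨n, hn⟩ := hCpg.exists_card_eq
    have h3 : 3 ≤ Nat.card C := by
      have hne : m0 ≠ m := by rintro rfl; exact hmX hm0X
      have hm1 : m ≠ 1 := by rintro rfl; exact hmX (one_mem _)
      let f : Fin 3 → C := ![1, ⟨m0, hMC m0 hm0⟩, ⟨m, hMC m hm⟩]
      have hf : Function.Injective f := by
        intro i j hij
        have h0 : (f i : G) = f j := congrArg Subtype.val hij
        fin_cases i <;> fin_cases j <;> simp [f] at h0 ⊢
        · exact hm01 h0.symm
        · exact hm1 h0.symm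
        · exact hm01 h0
        · exact hne h0
        · exact hm1 h0
        · exact hne h0.symm
      have := Nat.card_le_card_of_injective f hf
      simpa using this
    rw [hn] at h3 hcard_le ⊢
    have hn3 : n < 3 := by
      by_contra hc
      have : 2 ^ 3 ≤ 2 ^ n := Nat.pow_le_pow_right (by norm_num) (by omega)
      omega
    interval_cases n <;> omega
  -- G / C
  let F : G →* Equiv.Perm {c : C // c ≠ 1} := (permNe C).comp (MulAut.conjNormal (H := C))
  have hker : F.ker = C := by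
    ext x
    rw [MonoidHom.mem_ker]
    constructor
    · intro hx
      rw [hC, Subgroup.mem_centralizer_iff]
      intro w hw
      by_cases hw1 : w = 1
      · rw [hw1]; simp
      have h1 := congrArg (fun e : Equiv.Perm {c : C // c ≠ 1} => ((e ⟨⟨w, hMC w hw⟩, fun e => hw1 (congrArg Subtype.val e)⟩ : {c : C // c ≠ 1}) : C)) hx
      have h2 : x * w * x⁻¹ = w := congrArg Subtype.val h1
      calc w * x = x * w * x⁻¹ * x := by rw [h2]
        _ = x * w := by group
    · intro hx
      ext c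
      show x * ((c : C) : G) * x⁻¹ = _
      rw [A.commC hx (c : C).2]; simp
  have hcardne : Nat.card {c : C // c ≠ 1} = 3 := by
    haveI : Fintype C := Fintype.ofFinite C
    rw [Nat.card_eq_fintype_card, Fintype.card_subtype_compl, Fintype.card_subtype_eq, ← Nat.card_eq_fintype_card, hcard]
  have hdvd6 : Nat.card (G ⧸ C) ∣ 6 := by
    have e1 : Nat.card (G ⧸ C) = Nat.card F.range := by
      rw [← Nat.card_congr (QuotientGroup.quotientKerEquivRange F).toEquiv]
      rw [hker]
    rw [e1]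
    have h1 := Subgroup.card_subgroup_dvd_card F.range
    have h2 : Nat.card (Equiv.Perm {c : C // c ≠ 1}) = 6 := by
      rw [Nat.card_perm, hcardne]; rfl
    rwa [h2] at h1
  have hr3 : r = 3 := by
    have h1 : r ∣ 6 := (hrd.trans (orderOf_dvd_natCard _)).trans hdvd6
    have h2 : r ≤ 6 := Nat.le_of_dvd (by norm_num) h1
    have h3 := hr.two_le
    interval_cases r
    · exact absurd rfl hr2
    · rfl
    · omega
    · omega
    · exact absurd hr (by decide)
  subst hr3
  have hcardQ : Nat.card (G ⧸ C) = 6 := by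
    have h2 : 2 ∣ Nat.card (G ⧸ C) := by rw [← hoy]; exact orderOf_dvd_natCard _
    have h3 : 3 ∣ Nat.card (G ⧸ C) := hrd.trans (orderOf_dvd_natCard _)
    have h6 : 6 ∣ Nat.card (G ⧸ C) := by
      have : Nat.Coprime 2 3 := by decide
      exact this.mul_dvd_of_dvd_of_dvd h2 h3
    exact Nat.dvd_antisymm hdvd6 h6
  have hcardG : Nat.card G = 24 := by
    rw [Subgroup.card_eq_card_quotient_mul_card_subgroup C, hcard, hcardQ]
  -- Sylow 3-subgroups
  have hPC : ∀ (P : Sylow 3 G) (x : G), x ∈ P → x ∈ C → x = 1 := by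
    intro P x hx hxC
    obtain ⟨j, hj⟩ := P.2 ⟨x, hx⟩
    have h1 : x ^ 3 ^ j = 1 := by have := congrArg Subtype.val hj; simpa using this
    have h2 := orderOf_dvd_of_pow_eq_one h1
    have h3 := orderOf_dvd_of_pow_eq_one (A.powC hxC)
    have h4 : Nat.Coprime (3 ^ j) 2 := (by decide : Nat.Coprime 3 2).pow_left j
    exact orderOf_eq_one_iff.1 (Nat.Coprime.eq_one_of_dvd (Nat.Coprime.coprime_dvd_left h2 h4) h3)
  have hkp : IsPGroup 3 (Subgroup.zpowers k) := by
    rw [IsPGroup.iff_card]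
    exact ⟨1, by rw [Nat.card_zpowers, hko, pow_one]⟩
  obtain ⟨P, hP⟩ := hkp.exists_le_sylow
  have hkP : k ∈ P := hP (Subgroup.mem_zpowers k)
  have hnorm : ∀ c ∈ C, c ∈ Subgroup.normalizer (P : Set G) → c = 1 := by
    intro c hc hcn
    apply A.fpfC Nat.prime_three (by norm_num) hkr hk1 hc
    have h1 : c * k * c⁻¹ ∈ P := (Subgroup.mem_normalizer_iff.1 hcn k).1 hkP
    have h2 : c * k * c⁻¹ * k⁻¹ ∈ P := mul_mem h1 (inv_mem hkP)
    have h3 : c * k * c⁻¹ * k⁻¹ ∈ C := by
      have e : c * k * c⁻¹ * k⁻¹ = c * (k * c⁻¹ * k⁻¹) := by group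
      rw [e]; exact mul_mem hc (hCn.conj_mem _ (inv_mem hc) k)
    have h4 := hPC P _ h2 h3
    calc c * k = c * k * c⁻¹ * k⁻¹ * (k * c) := by group
      _ = k * c := by rw [h4, one_mul]
  have hcardS : Nat.card (Sylow 3 G) = 4 := by
    have h1 : Nat.card (Sylow 3 G) ≡ 1 [MOD 3] := card_sylow_modEq_one 3 G
    have h2 : Nat.card (Sylow 3 G) ∣ (P : Subgroup G).index := Sylow.card_dvd_index P
    have h3 : Nat.card P = 3 := by
      have h5 := P.card_eq_multiplicity
      rw [hcardG] at h5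
      have h6 : (24 : ℕ).factorization 3 = 1 := by
        have : (24 : ℕ) = 3 ^ 1 * 8 := by norm_num
        rw [this, Nat.factorization_mul (by norm_num) (by norm_num)]
        rw [Nat.Prime.factorization_pow Nat.prime_three]
        rw [Finsupp.add_apply, Finsupp.single_eq_same, Nat.factorization_eq_zero_of_not_dvd (by norm_num)]
      rw [h6] at h5
      simpa using h5
    have h4 : (P : Subgroup G).index = 8 := by
      have h5 := Subgroup.card_mul_index (P : Subgroup G)
      have h6 : Nat.card (P : Subgroup G) = 3 := h3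
      rw [h6, hcardG] at h5
      omega
    rw [h4] at h2
    have h5 : Nat.card (Sylow 3 G) ≤ 8 := Nat.le_of_dvd (by norm_num) h2
    have h6 : Nat.card (Sylow 3 G) ≠ 1 := by
      intro h7
      haveI : Subsingleton (Sylow 3 G) := (Nat.card_eq_one_iff_unique.1 h7).1
      haveI : (P : Subgroup G).Normal := P.normal_of_subsingleton
      apply hm01
      apply hnorm m0 (hMC m0 hm0)
      show m0 ∈ Subgroup.normalizer ((P : Subgroup G) : Set G)
      rw [Subgroup.normalizer_eq_top]; trivial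
    exact nat_four h2 h1 h6
  let Φ : G →* Equiv.Perm (Sylow 3 G) := MulAction.toPermHom G (Sylow 3 G)
  have hΦ : Function.Injective Φ := by
    rw [← MonoidHom.ker_eq_bot_iff]
    have hKn : Φ.ker.Normal := inferInstance
    have h1 : Φ.ker ⊓ C = ⊥ := by
      rw [eq_bot_iff]
      rintro c ⟨hc1, hc2⟩
      rw [Subgroup.mem_bot]
      apply hnorm c hc2
      have h2 := congrArg (fun e : Equiv.Perm (Sylow 3 G) => e P) (MonoidHom.mem_ker.1 hc1)
      exact Sylow.smul_eq_iff_mem_normalizer.1 h2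
    rw [eq_bot_iff, ← h1]
    refine le_inf le_rfl ?_
    intro x hx
    rw [hC, Subgroup.mem_centralizer_iff]
    intro w hw
    have h3 : w * x * w⁻¹ * x⁻¹ ∈ Φ.ker ⊓ C := by
      refine Subgroup.mem_inf.2 ⟨?_, ?_⟩
      · exact mul_mem (hKn.conj_mem x hx w) (inv_mem hx)
      · have e : w * x * w⁻¹ * x⁻¹ = w * (x * w⁻¹ * x⁻¹) := by group
        rw [e]
        exact mul_mem (hMC w hw) (hCn.conj_mem _ (inv_mem (hMC w hw)) x)
    rw [h1, Subgroup.mem_bot] at h3
    calc w * x = w * x * w⁻¹ * x⁻¹ * (x * w) := by group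
      _ = x * w := by rw [h3, one_mul]
  have hbij : Function.Bijective Φ := by
    rw [Nat.bijective_iff_injective_and_card]
    refine ⟨hΦ, ?_⟩
    rw [Nat.card_perm, hcardS, hcardG]; rfl
  haveI : Fintype (Sylow 3 G) := Fintype.ofFinite _
  have eF : Sylow 3 G ≃ Fin 4 := Fintype.equivFinOfCardEq (by rw [← Nat.card_eq_fintype_card, hcardS])
  exact ⟨(MulEquiv.ofBijective Φ hbij).trans eF.permCongrHom⟩

end AM

end NP

end Cfsg.Agent.Ptn
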